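import Groth.Agent.Ega2.RelAmpQAff
import Groth.Agent.PerfB.ModExact

/-!
# Ampleness from affine nonvanishing loci of sections of the module itself

* `ampleOn_of_nv_cover`: `L` is ample on a quasi-compact open `U` covered by affine nonvanishing loci of sections
  of `L` over `U`.
* `isRelAmple_pullback_of_isEmbedding`: for `p : P ⟶ Y` quasi-separated and `L` on `P` with affine nonvanishing
  loci of sections over `p⁻¹ V` covering `p⁻¹ V`, the pullback of `L` along an embedding is relatively ample.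
* `epi_counit_of_nv`: `q^* q_* L ⟶ L` is an epimorphism as soon as `L` is generated by sections over the
  preimages of opens of the base.
-/

set_option autoImplicit false
universe u
open CategoryTheory CategoryTheory.Limits AlgebraicGeometry

namespace K34.AmpleCrit

open Groth.Agent.Ega2.ExtCoeff Groth.Agent.Ega2.Nv Groth.Agent.Ega2.Ample Groth.Agent.Fdesc.LocGen
open Groth.Agent.Ega2.RelAmp Groth.Agent.Ega2.RelAmpQAff

variable {X Y P : Scheme.{u}}

/-- The nonvanishing locus of a power. -/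
theorem nv_pow {L : X.Modules} {U : X.Opens} (hL : LocGen L U) (s : Γ(L, U)) {n : ℕ} (hn : 0 < n) :
    nv (CohB1.tensorPow L n) (pow s n) = nv L s := by
  apply le_antisymm
  · intro x hx
    obtain ⟨V, e, hxV, hVU, he⟩ := hL x (nv_le _ _ hx)
    obtain ⟨a, ha⟩ := he.exists_eq (res L hVU s)
    have h1 := nv_inf_of_eq_smul s hVU he a ha
    have h2 : res _ hVU (pow s n) = (a ^ n) • pow e n := by
      rw [res_pow, ha, smul_pow]
    have h3 := nv_inf_of_eq_smul (pow s n) hVU (he.pow n) (a ^ n) h2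
    rw [X.basicOpen_pow a hn, ← h1] at h3
    have h4 : x ∈ V ⊓ nv _ (pow s n) := ⟨hxV, hx⟩
    rw [h3] at h4
    exact h4.2
  · rw [le_nv_iff _ _ (nv_le _ _), res_pow]
    exact (isGen_nv L s).pow n

theorem locGen_of_nv_cover {L : X.Modules} {U : X.Opens} (h : ∀ x ∈ U, ∃ s : Γ(L, U), x ∈ nv L s) :
    LocGen L U := by
  intro x hx
  obtain ⟨s, hs⟩ := h x hx
  exact ⟨nv L s, res L (nv_le L s) s, hs, nv_le L s, isGen_nv L s⟩

/-- Ampleness on an open from affine nonvanishing loci of sections of `L`. -/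
theorem ampleOn_of_nv_cover {L : X.Modules} {U : X.Opens} (hc : IsCompact (U : Set X))
    (h : ∀ x ∈ U, ∃ s : Γ(L, U), x ∈ nv L s ∧ IsAffineOpen (nv L s)) : AmpleOn L U := by
  have hL : LocGen L U := locGen_of_nv_cover fun x hx => by
    obtain ⟨s, hs, -⟩ := h x hx
    exact ⟨s, hs⟩
  refine ⟨hL, hc, fun x hx => ?_⟩
  obtain ⟨s, hs, hs'⟩ := h x hx
  refine ⟨1, one_pos, pow s 1, ?_, ?_⟩
  · rwa [nv_pow hL s one_pos]
  · rwa [nv_pow hL s one_pos]

/-- Every quasi-compact set in `U`, covered by affine nonvanishing loci of sections of `L` over `U`, has a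
neighbourhood on which `L` is ample. -/
theorem exists_ampleOn {L : X.Modules} {U : X.Opens}
    (h : ∀ x ∈ U, ∃ s : Γ(L, U), x ∈ nv L s ∧ IsAffineOpen (nv L s)) {K : Set X} (hK : IsCompact K)
    (hKU : K ⊆ U) : ∃ W : X.Opens, W ≤ U ∧ K ⊆ W ∧ AmpleOn L W := by
  choose s hs hs' using h
  obtain ⟨t, ht⟩ := hK.elim_finite_subcover (fun x : K => ((nv L (s x.1 (hKU x.2)) : X.Opens) : Set X))
    (fun x => (nv L _).isOpen) (fun x hx => Set.mem_iUnion.2 ⟨⟨x, hx⟩, hs _ _⟩)
  have hW : (⨆ x ∈ t, nv L (s x.1 (hKU x.2)) : X.Opens) ≤ U := iSup₂_le fun x _ => nv_le _ _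
  refine ⟨⨆ x ∈ t, nv L (s x.1 (hKU x.2)), hW, ?_, ?_⟩
  · intro y hy
    obtain ⟨x, hx, hyx⟩ := Set.mem_iUnion₂.1 (ht hy)
    exact TopologicalSpace.Opens.mem_iSup.2 ⟨x, TopologicalSpace.Opens.mem_iSup.2 ⟨hx, hyx⟩⟩
  · refine ampleOn_of_nv_cover ?_ ?_
    · simp only [TopologicalSpace.Opens.coe_iSup]
      exact t.finite_toSet.isCompact_biUnion fun x _ => (hs' _ _).isCompact
    · intro y hy
      obtain ⟨x, hy⟩ := TopologicalSpace.Opens.mem_iSup.1 hy
      obtain ⟨hx, hy⟩ := TopologicalSpace.Opens.mem_iSup.1 hy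
      have h1 : nv L (res L hW (s x.1 (hKU x.2))) = nv L (s x.1 (hKU x.2)) := by
        rw [nv_res]
        exact inf_eq_right.2 (le_iSup₂_of_le x hx le_rfl)
      exact ⟨res L hW (s x.1 (hKU x.2)), by rwa [h1], by rw [h1]; exact hs' _ _⟩

/-- The pullback of `L` along an embedding is relatively ample. -/
theorem isRelAmple_pullback_of_isEmbedding (f : X ⟶ Y) [QuasiCompact f] (p : P ⟶ Y) [QuasiSeparated p]
    (g : X ⟶ P) (hg : g ≫ p = f) (hemb : Topology.IsEmbedding g.base) (L : P.Modules)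
    (h : ∀ V : Y.affineOpens, ∀ x ∈ p ⁻¹ᵁ (V : Y.Opens), ∃ s : Γ(L, p ⁻¹ᵁ (V : Y.Opens)),
      x ∈ nv L s ∧ IsAffineOpen (nv L s)) :
    RelAmple.IsRelAmple f ((Scheme.Modules.pullback g).obj L) := by
  subst hg
  have hgc : QuasiCompact g := QuasiCompact.of_comp g p
  rw [isRelAmple_iff]
  refine ⟨inferInstance, fun V => ?_⟩
  have hc : IsCompact (((g ≫ p) ⁻¹ᵁ (V : Y.Opens) : X.Opens) : Set X) :=
    (g ≫ p).isCompact_preimage V.2.isCompact
  obtain ⟨W, hWU, hKW, hW⟩ := exists_ampleOn (h V) (hc.image g.continuous) (by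
    rintro _ ⟨x, hx, rfl⟩
    exact hx)
  have h1 : (g ≫ p) ⁻¹ᵁ (V : Y.Opens) = g ⁻¹ᵁ W := by
    apply le_antisymm
    · intro x hx
      exact hKW ⟨x, hx, rfl⟩
    · exact g.preimage_mono hWU
  rw [h1]
  exact ampleOn_of_qaff (Groth.Agent.Ega2.QuasiAffine.qaff_of_isEmbedding g hemb) (pullMap g L) hW

/-- The counit sends the pullback of a section to the section. -/
theorem counit_pullSec (q : X ⟶ Y) (L : X.Modules) {V : Y.Opens} (s : Γ(L, q ⁻¹ᵁ V)) :
    ((Scheme.Modules.pullbackPushforwardAdjunction q).counit.app L).app (q ⁻¹ᵁ V)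
      (pullSec q (M := (Scheme.Modules.pushforward q).obj L) s) = s := by
  have h := (Scheme.Modules.pullbackPushforwardAdjunction q).right_triangle_components L
  exact congr(($h).app V s)

/-- The counit `q^* q_* L ⟶ L` is an epimorphism if `L` is generated, near each point, by a section over the
preimage of an open. -/
theorem epi_counit_of_nv (q : X ⟶ Y) (L : X.Modules)
    (h : ∀ x : X, ∃ (V : Y.Opens) (s : Γ(L, q ⁻¹ᵁ V)), x ∈ nv L s) :
    Epi ((Scheme.Modules.pullbackPushforwardAdjunction q).counit.app L) := by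
  refine Groth.Agent.PerfB.ModExact.epi_of_locally_surjective _ fun U y x hx => ?_
  obtain ⟨V, s, hs⟩ := h x
  have hle : U ⊓ nv L s ≤ q ⁻¹ᵁ V := inf_le_right.trans (nv_le L s)
  have hg : IsGen (res L hle s) := (le_nv_iff L s hle).1 inf_le_right
  obtain ⟨a, ha⟩ := hg.exists_eq (res L inf_le_left y)
  refine ⟨U ⊓ nv L s, inf_le_left, ⟨hx, hs⟩,
    a • res _ hle (pullSec q (M := (Scheme.Modules.pushforward q).obj L) s), ?_⟩
  have h1 := app_res ((Scheme.Modules.pullbackPushforwardAdjunction q).counit.app L) hle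
    (pullSec q (M := (Scheme.Modules.pushforward q).obj L) s)
  have h2 := counit_pullSec q L s
  have h3 := Scheme.Modules.Hom.app_smul ((Scheme.Modules.pullbackPushforwardAdjunction q).counit.app L) a
    (res _ hle (pullSec q (M := (Scheme.Modules.pushforward q).obj L) s))
  refine h3.trans ?_
  refine Eq.trans ?_ ha.symm
  refine congrArg (fun z : Γ(L, U ⊓ nv L s) => a • z) ?_
  exact h1.trans (congrArg (res L hle) h2)

end K34.AmpleCrit
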