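import Groth.Agent.Ega2.RelAmp

/-!
# A relatively ample module is invertible
-/

set_option autoImplicit false
universe u
open CategoryTheory CategoryTheory.Limits AlgebraicGeometry

namespace K34.RelAmpInv

open Groth.Agent.Ega2.Nv Groth.Agent.Ega2.Ample Groth.Agent.Ega2.RelAmp

variable {X Y : Scheme.{u}}

theorem isInvertible_of_isRelAmple (f : X ⟶ Y) {L : X.Modules} (h : RelAmple.IsRelAmple f L) :
    PicF.IsInvertible L := by
  rw [← locGen_top_iff]
  intro x _
  obtain ⟨_, ⟨V, hV, rfl⟩, hyV, -⟩ :=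
    Y.isBasis_affineOpens.exists_subset_of_mem_open (Set.mem_univ (f x)) isOpen_univ
  obtain ⟨W, e, hx, -, he⟩ := ((isRelAmple_iff.1 h).2 ⟨V, hV⟩).locGen x hyV
  exact ⟨W, e, hx, le_top, he⟩

end K34.RelAmpInv
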