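import Groth.Agent.Flat2F.FtSub

/-!
# Finite families of sections lie in a quasi-coherent submodule of finite type
-/

set_option autoImplicit false
universe u

open CategoryTheory CategoryTheory.Limits AlgebraicGeometry Opposite TopologicalSpace

namespace K34.FtSub

open Groth.Agent.Flat2F.FtSub Groth.Agent.Ega1.SubSheaf

variable {Z : Scheme.{u}}

/-- On a qcqs scheme, finitely many sections over affine opens of a quasi-coherent module lie in a quasi-coherent
submodule of finite type. -/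
theorem exists_ft_sub {G : Z.Modules} [CompactSpace Z] [QuasiSeparatedSpace Z] (hG : Coh.IsQCoh G)
    {ι : Type*} [Finite ι] (V : ι → Z.Opens) (hV : ∀ i, IsAffineOpen (V i)) (s : ∀ i, Γ(G, V i)) :
    ∃ (F : Z.Modules) (j : F ⟶ G), Mono j ∧ Coh.IsQCoh F ∧ CohB1.IsFT F ∧
      ∀ i, ∃ t : Γ(F, V i), j.app (V i) t = s i := by
  have : IsDirected (GoodSub G) (· ≤ ·) := GoodSub.directed hG
  have : Nonempty (GoodSub G) := by
    by_cases h : Nonempty ι
    · obtain ⟨i⟩ := h
      obtain ⟨a, -⟩ := GoodSub.exists_mem hG (hV i) (s i)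
      exact ⟨a⟩
    · obtain ⟨a, -⟩ := GoodSub.exists_mem hG (isAffineOpen_bot Z) 0
      exact ⟨a⟩
  choose a ha using fun i => GoodSub.exists_mem hG (hV i) (s i)
  obtain ⟨b, hb⟩ := Finite.exists_le a
  refine ⟨b.sub.toModules, b.sub.ι, inferInstance, b.isQCoh hG, b.isFT hG, fun i => ?_⟩
  exact ⟨b.sub.sec (s i) (hb i _ (ha i)), Sub.ι_app_sec _ _ _⟩

end K34.FtSub
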