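import Groth.Agent.Ega2.AmpleTransfer

/-!
# Modules identified with a module on an open subscheme through a map to a direct image

`j : Y ⟶ X` an open immersion, `L` a module on `X`, `T` a module on `Y` and `lam : L ⟶ j_* T` bijective
on sections over the opens contained in the range of `j`.
* `isGen_iff`: local generators of `L` inside the range of `j` and of `T` correspond.
* `preimage_nv`, `nv_eq_image`: so do nonvanishing loci of sections.
* `restrictIso`: `L.restrict j ≅ T`.
-/

set_option autoImplicit false

universe u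

open CategoryTheory CategoryTheory.Limits AlgebraicGeometry

namespace K34.OpenMap

open Groth.Agent.Ega2.ExtCoeff Groth.Agent.Ega2.Nv Groth.Agent.Ega2.Ample Groth.Agent.Fdesc.LocGen

variable {X Y : Scheme.{u}} (j : Y ⟶ X) {L : X.Modules} {T : Y.Modules}
  (lam : L ⟶ (Scheme.Modules.pushforward j).obj T)

/-- The map on sections over `W`, seen in the sections of `T` over the preimage of `W`. -/
noncomputable def sec (W : X.Opens) : Γ(L, W) →+ Γ(T, j ⁻¹ᵁ W) :=
  (lam.app W).hom

theorem sec_smul (W : X.Opens) (a : Γ(X, W)) (e : Γ(L, W)) :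
    sec j lam W (a • e) = (j.app W a : Γ(Y, j ⁻¹ᵁ W)) • sec j lam W e :=
  Scheme.Modules.Hom.app_smul lam a e

theorem res_sec {W W' : X.Opens} (h : W' ≤ W) (e : Γ(L, W)) :
    res T (j.preimage_mono h) (sec j lam W e) = sec j lam W' (res L h e) :=
  (app_res lam h e).symm

variable [IsOpenImmersion j] (hlam : ∀ W : X.Opens, W ≤ j.opensRange → Function.Bijective (lam.app W))

include hlam

theorem sec_bijective {W : X.Opens} (hW : W ≤ j.opensRange) : Function.Bijective (sec j lam W) :=
  hlam W hW

theorem isGen_iff {W : X.Opens} (hW : W ≤ j.opensRange) (e : Γ(L, W)) :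
    IsGen (sec j lam W e) ↔ IsGen e := by
  constructor
  · intro he V hV
    have h1 := he (j ⁻¹ᵁ V) (j.preimage_mono hV)
    have h2 := app_bijective j (hV.trans hW)
    have h3 := sec_bijective j lam hlam (hV.trans hW)
    have h4 : Function.Bijective (sec j lam V ∘ fun a : Γ(X, V) => a • res L hV e) := by
      have h5 : (sec j lam V ∘ fun a : Γ(X, V) => a • res L hV e) =
          (fun a : Γ(Y, j ⁻¹ᵁ V) => a • res T (j.preimage_mono hV) (sec j lam W e)) ∘
            fun a : Γ(X, V) => (j.app V a : Γ(Y, j ⁻¹ᵁ V)) := by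
        funext a
        simp only [Function.comp_apply]
        rw [sec_smul, res_sec]
      rw [h5]
      exact h1.comp h2
    exact (Function.Bijective.of_comp_iff' h3 _).1 h4
  · intro he V hV
    obtain ⟨V', hV', rfl⟩ : ∃ V' : X.Opens, V' ≤ W ∧ j ⁻¹ᵁ V' = V := by
      refine ⟨j ''ᵁ V, ?_, j.preimage_image_eq V⟩
      refine (j.image_mono hV).trans ?_
      exact j.image_preimage_le W
    have h1 := he V' hV'
    have h2 := app_bijective j (hV'.trans hW)
    have h3 := sec_bijective j lam hlam (hV'.trans hW)
    have h4 : Function.Bijective ((fun a : Γ(Y, j ⁻¹ᵁ V') => a • res T hV (sec j lam W e)) ∘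
        fun a : Γ(X, V') => (j.app V' a : Γ(Y, j ⁻¹ᵁ V'))) := by
      have h5 : ((fun a : Γ(Y, j ⁻¹ᵁ V') => a • res T hV (sec j lam W e)) ∘
        fun a : Γ(X, V') => (j.app V' a : Γ(Y, j ⁻¹ᵁ V'))) =
          (sec j lam V' ∘ fun a : Γ(X, V') => a • res L hV' e) := by
        funext a
        simp only [Function.comp_apply]
        rw [sec_smul]
        congr 1
        exact res_sec j lam hV' e
      rw [h5]
      exact h3.comp h1
    exact (Function.Bijective.of_comp_iff _ h2).1 h4

/-- Nonvanishing loci correspond. -/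
theorem preimage_nv {W : X.Opens} (hW : W ≤ j.opensRange) (e : Γ(L, W)) :
    j ⁻¹ᵁ (nv L e) = nv T (sec j lam W e) := by
  apply le_antisymm
  · have h1 := (isGen_iff j lam hlam ((nv_le L e).trans hW) _).2 (isGen_nv L e)
    rw [← res_sec j lam (nv_le L e)] at h1
    exact (le_nv_iff T _ (j.preimage_mono (nv_le L e))).2 h1
  · have h2 : j ''ᵁ (nv T (sec j lam W e)) ≤ W :=
      (j.image_mono (nv_le T _)).trans (j.image_preimage_le W)
    have h3 : IsGen (res L h2 e) := by
      rw [← isGen_iff j lam hlam (h2.trans hW), ← res_sec j lam h2]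
      have h4 : j ⁻¹ᵁ (j ''ᵁ (nv T (sec j lam W e))) ≤ nv T (sec j lam W e) :=
        (j.preimage_image_eq _).le
      rw [← le_nv_iff T _ (j.preimage_mono h2)]
      exact h4
    have h5 := (le_nv_iff L e h2).2 h3
    have h6 := j.preimage_mono h5
    rwa [j.preimage_image_eq] at h6

theorem nv_eq_image {W : X.Opens} (hW : W ≤ j.opensRange) (e : Γ(L, W)) :
    nv L e = j ''ᵁ (nv T (sec j lam W e)) := by
  rw [← preimage_nv j lam hlam hW e, j.image_preimage_eq_opensRange_inf]
  exact (inf_eq_right.2 ((nv_le L e).trans hW)).symm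

/-- The restriction of `L` to the open subscheme is `T`. -/
noncomputable def restrictIso : L.restrict j ≅ T := by
  let θ : L.restrict j ⟶ T :=
    (Scheme.Modules.restrictFunctor j).map lam ≫ (Scheme.Modules.restrictAdjunction j).counit.app T
  have hθ : IsIso θ := by
    rw [Scheme.Modules.Hom.isIso_iff_isIso_app]
    intro V
    have h1 : IsIso (((Scheme.Modules.restrictFunctor j).map lam).app V) := by
      have h2 : Function.Bijective (lam.app (j ''ᵁ V)) := hlam _ (j.image_le_opensRange V)
      exact (ConcreteCategory.isIso_iff_bijective _).2 h2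
    have h3 : IsIso (((Scheme.Modules.restrictAdjunction j).counit.app T).app V) := by
      infer_instance
    change IsIso (((Scheme.Modules.restrictFunctor j).map lam).app V ≫
      ((Scheme.Modules.restrictAdjunction j).counit.app T).app V)
    infer_instance
  exact asIso θ

end K34.OpenMap
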