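import Groth.Agent.EGA2.K43.RelTw
import Groth.Agent.EGA2.K43.Piece
import Groth.Agent.EGA2.K37.GenOne
import Groth.Agent.EGA2.K36.SymAlg
import Groth.Agent.EGA2.K34.AmpleCrit

/-!
# Affine nonvanishing loci of sections of the fundamental sheaf

* `isGenDegOne_of_isGrSymAlg`: the symmetric algebra of a quasi-coherent module is generated in degree one;
* `exists_nv`: for `𝒮` generated in degree one, `O(1)` has over `p⁻¹ U` sections with affine nonvanishing loci
  covering `p⁻¹ U`.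
-/

set_option autoImplicit false
universe u

open CategoryTheory CategoryTheory.Limits AlgebraicGeometry TopologicalSpace Opposite

noncomputable section

namespace K34.TwistCover

open Groth.Agent.Fdesc.LocGen Groth.Agent.Ega2.Nv Groth.Agent.Ega2.Ample K43.RelTw RelProj

variable {S P : Scheme.{u}} {𝒮 : QCGrAlg S} {p : P ⟶ S}
  {chart : ∀ (U : S.Opens) (hU : IsAffineOpen U), (((p ⁻¹ᵁ U : P.Opens) : Scheme.{u}) ≅ Proj (𝒮.deg U hU))}

/-- The symmetric algebra of a quasi-coherent module is generated over the base by degree-one elements. -/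
theorem closure_of_isGrSymAlg {E : S.Modules} (hE : Coh.IsQCoh E) {j : E ⟶ 𝒮.toModule}
    (hj : IsGrSymAlg E 𝒮 j) (U : S.Opens) (hU : IsAffineOpen U) :
    Subring.closure (Set.range (𝒮.str.app (op U)).hom ∪ Set.range (fun e : Γ(E, U) => K36.SymAlg.jApp E 𝒮.toQCAlg j U e)) = ⊤ := by
  rw [eq_top_iff]
  intro a _
  obtain ⟨t, rfl⟩ := (K36.SymAlg.bijective_symHom hE hj.1 U hU).2 a
  induction t using SymmetricAlgebra.induction with
  | algebraMap r =>
    rw [K36.SymAlg.symHom_algebraMap]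
    exact Subring.subset_closure (Or.inl ⟨r, rfl⟩)
  | ι m =>
    rw [K36.SymAlg.symHom_ι]
    exact Subring.subset_closure (Or.inr ⟨m, rfl⟩)
  | mul a b ha hb => rw [map_mul]; exact mul_mem (ha trivial) (hb trivial)
  | add a b ha hb => rw [map_add]; exact add_mem (ha trivial) (hb trivial)

theorem isGenDegOne_of_isGrSymAlg {E : S.Modules} (hE : Coh.IsQCoh E) {j : E ⟶ 𝒮.toModule}
    (hj : IsGrSymAlg E 𝒮 j) : 𝒮.IsGenDegOne := by
  intro U hU
  rw [eq_top_iff, ← closure_of_isGrSymAlg hE hj U hU]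
  apply Subring.closure_mono
  apply Set.union_subset_union
  · rintro _ ⟨r, rfl⟩
    exact 𝒮.str_mem U hU r
  · rintro _ ⟨e, rfl⟩
    exact hj.2 U hU e

/-- Every point of `p⁻¹ U` is in the image of the chart. -/
theorem exists_emb_eq {U : S.Opens} (hU : IsAffineOpen U) {x : P} (hx : x ∈ p ⁻¹ᵁ U) :
    ∃ y : Proj (𝒮.deg U hU), emb p chart U hU y = x := by
  have h := K35.RelProjBasic.opensRange_emb (chart := chart) U hU
  rw [← h] at hx
  exact hx

/-- Affine nonvanishing loci of sections of `O(1)`. -/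
theorem exists_nv (hgen : 𝒮.IsGenDegOne) {L : P.Modules}
    {lam : ∀ (U : S.Opens) (hU : IsAffineOpen U),
      L ⟶ (Scheme.Modules.pushforward (emb p chart U hU)).obj (GrTwist.twist (𝒮.deg U hU) 1)}
    (hL : IsRelTwist 𝒮 p chart 1 L lam) {U : S.Opens} (hU : IsAffineOpen U) {x : P} (hx : x ∈ p ⁻¹ᵁ U) :
    ∃ s : Γ(L, p ⁻¹ᵁ U), x ∈ nv L s ∧ IsAffineOpen (nv L s) := by
  obtain ⟨y, rfl⟩ := exists_emb_eq (chart := chart) hU hx
  obtain ⟨f, hf, hfy⟩ := K37.GenOne.exists_deg_one_notMem (hgen U hU) y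
  have hcov : ∀ y : ProjectiveSpectrum (𝒮.deg U hU), ∃ b : 𝒮.deg U hU 1, b.1 ∉ y.asHomogeneousIdeal := by
    intro y
    obtain ⟨f, hf, hfy⟩ := K37.GenOne.exists_deg_one_notMem (hgen U hU) y
    exact ⟨⟨f, hf⟩, hfy⟩
  have h1 := nv_can hL hU (i := 1) rfl hcov ⟨f, hf⟩
  refine ⟨can hL hU (i := 1) rfl ⟨f, hf⟩, ?_, ?_⟩
  · rw [h1]
    exact (emb_mem_Dp (chart := chart) hU f y).2 hfy
  · rw [h1]
    exact isAffineOpen_Dp hU one_pos _

end K34.TwistCover

end
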