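import Groth.Agent.EGA2.K35.RelProjFT
import Groth.Agent.EGA2.K34.TwistCover
import Groth.Agent.EGA2.K34.RelAmpInv

/-!
# Degrees in which a finitely generated graded algebra has enough elements; ampleness of `O(d)`
-/

set_option autoImplicit false
universe u

open CategoryTheory CategoryTheory.Limits AlgebraicGeometry TopologicalSpace Opposite

namespace K34.ProjDegree

section ring

variable {A σ : Type u} [CommRing A] [SetLike σ A] [AddSubgroupClass σ A] (𝒜 : ℕ → σ) [GradedRing 𝒜]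

/-- For every positive multiple `e` of some `d > 0`, the elements of degree `e` have no common zero on `Proj`. -/
theorem exists_degree [Algebra.FiniteType (𝒜 0) A] : ∃ d : ℕ, 0 < d ∧ ∀ e : ℕ, 0 < e → d ∣ e →
    ∀ y : ProjectiveSpectrum 𝒜, ∃ b : 𝒜 e, b.1 ∉ y.asHomogeneousIdeal := by
  classical
  obtain ⟨x, hx, hx'⟩ := GradedAlgebra.exists_finset_adjoin_eq_top_and_homogeneous_ne_zero 𝒜
  choose n hn hxn using hx'
  refine ⟨∏ i ∈ x.attach, n i.1 i.2, Finset.prod_pos fun i _ => Nat.pos_of_ne_zero (hn _ _), ?_⟩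
  intro e he hd y
  have hcov := Proj.iSup_basicOpen_eq_top' 𝒜 (ι := x) (↑) (fun i ↦ ⟨_, hxn _ i.2⟩) (by simpa using hx)
  have hy : (show (Proj 𝒜 : Scheme.{u}) from y) ∈ (⊤ : (Proj 𝒜).Opens) := trivial
  rw [← hcov, TopologicalSpace.Opens.mem_iSup] at hy
  obtain ⟨i, hi⟩ := hy
  have h1 : n i.1 i.2 ∣ e := (Finset.dvd_prod_of_mem (fun i : x => n i.1 i.2) (Finset.mem_attach _ i)).trans hd
  obtain ⟨k, hk⟩ := h1
  refine ⟨⟨i.1 ^ k, ?_⟩, ?_⟩
  · have := SetLike.pow_mem_graded k (hxn i.1 i.2)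
    rw [smul_eq_mul, mul_comm, ← hk] at this
    exact this
  · intro h
    exact hi (y.isPrime.mem_of_pow_mem _ h)

end ring

open Groth.Agent.Fdesc.LocGen Groth.Agent.Ega2.Nv Groth.Agent.Ega2.Ample Groth.Agent.Ega2.RelAmp K43.RelTw RelProj

variable {S P : Scheme.{u}} {𝒮 : QCGrAlg S} {p : P ⟶ S}
  {chart : ∀ (U : S.Opens) (hU : IsAffineOpen U), (((p ⁻¹ᵁ U : P.Opens) : Scheme.{u}) ≅ Proj (𝒮.deg U hU))}

/-- `O(d)` is ample over `p⁻¹ U` when the elements of `𝒮(U)_d` have no common zero. -/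
theorem ampleOn [QuasiCompact p] {d : ℕ} (hd : 0 < d) {L : P.Modules}
    {lam : ∀ (U : S.Opens) (hU : IsAffineOpen U),
      L ⟶ (Scheme.Modules.pushforward (emb p chart U hU)).obj (GrTwist.twist (𝒮.deg U hU) (d : ℤ))}
    (hL : IsRelTwist 𝒮 p chart (d : ℤ) L lam) {U : S.Opens} (hU : IsAffineOpen U)
    (hcov : ∀ y : ProjectiveSpectrum (𝒮.deg U hU), ∃ b : 𝒮.deg U hU d, b.1 ∉ y.asHomogeneousIdeal) :
    AmpleOn L (p ⁻¹ᵁ U) := by
  refine K34.AmpleCrit.ampleOn_of_nv_cover (p.isCompact_preimage hU.isCompact) fun x hx => ?_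
  obtain ⟨y, rfl⟩ := K34.TwistCover.exists_emb_eq (chart := chart) hU hx
  obtain ⟨f, hfy⟩ := hcov y
  have h1 := nv_can hL hU (i := d) rfl hcov f
  refine ⟨can hL hU (i := d) rfl f, ?_, ?_⟩
  · rw [h1]
    exact (emb_mem_Dp (chart := chart) hU f.1 y).2 hfy
  · rw [h1]
    exact isAffineOpen_Dp hU hd _

/-- On a quasi-compact base, for `𝒮` of finite type, some `O(d)` is relatively ample (and invertible). -/
theorem exists_relAmple [CompactSpace S] (hP : IsRelProj 𝒮 p chart)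
    (hft : ∀ (U : S.Opens) (_ : IsAffineOpen U), (𝒮.str.app (op U)).hom.FiniteType) :
    ∃ d : ℕ, 0 < d ∧ ∀ e : ℕ, 0 < e → d ∣ e → ∀ (L : P.Modules)
      (lam : ∀ (U : S.Opens) (hU : IsAffineOpen U),
        L ⟶ (Scheme.Modules.pushforward (emb p chart U hU)).obj (GrTwist.twist (𝒮.deg U hU) (e : ℤ))),
      IsRelTwist 𝒮 p chart (e : ℤ) L lam → PicF.IsInvertible L ∧ RelAmple.IsRelAmple p L := by
  classical
  have hqc : QuasiCompact p := (K35.RelProjFT.finiteType_of_finiteType hP hft).2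
  have key : ∀ V : S.affineOpens, ∃ d : ℕ, 0 < d ∧ ∀ e : ℕ, 0 < e → d ∣ e →
      ∀ y : ProjectiveSpectrum (𝒮.deg V V.2), ∃ b : 𝒮.deg V V.2 e, b.1 ∉ y.asHomogeneousIdeal := by
    intro V
    have := (K35.RelProjFT.finiteType_zero (𝒮.deg V V.2) (𝒮.strZero V V.2).hom (hft V V.2)).2
    exact exists_degree (𝒮.deg V V.2)
  choose d hd hd' using key
  obtain ⟨t, ht⟩ := isCompact_univ.elim_finite_subcover (fun V : S.affineOpens => ((V : S.Opens) : Set S))
    (fun V => (V : S.Opens).isOpen) (fun y _ => by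
      obtain ⟨_, ⟨V, hV, rfl⟩, hyV, -⟩ :=
        S.isBasis_affineOpens.exists_subset_of_mem_open (Set.mem_univ y) isOpen_univ
      exact Set.mem_iUnion.2 ⟨⟨V, hV⟩, hyV⟩)
  refine ⟨∏ V ∈ t, d V, Finset.prod_pos fun V _ => hd V, fun e he hde L lam hL => ?_⟩
  have h1 : RelAmple.IsRelAmple p L := by
    refine isRelAmple_of_forall_exists fun y => ?_
    obtain ⟨V, hV, hyV⟩ := Set.mem_iUnion₂.1 (ht (Set.mem_univ y))
    exact ⟨V, V.2, hyV, ampleOn he hL V.2 (hd' V e he ((Finset.dvd_prod_of_mem d hV).trans hde))⟩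
  exact ⟨K34.RelAmpInv.isInvertible_of_isRelAmple p h1, h1⟩

end K34.ProjDegree
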