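import Groth.Agent.EGA2.K43.VADef
import Groth.Agent.Ega1.QcqsPush
import Groth.Agent.CohqB.FiniteType2
import Groth.Agent.Fdesc.StructMod
import Groth.Agent.Ega2.Ample
import Groth.Agent.Ega2.AmpleTransfer

/-!
# Very ampleness data of affine and finite morphisms; monotonicity in the module on the base
-/

set_option autoImplicit false
universe u
open CategoryTheory CategoryTheory.Limits AlgebraicGeometry TopologicalSpace Opposite

namespace K34.FinVA

open Groth.Agent.Fdesc.LocGen Groth.Agent.Ega2.Nv Groth.Agent.Ega2.ExtCoeff Groth.Agent.Ega2.Ample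
open K43.HomImm K43.VADef

variable {X Y : Scheme.{u}} (q : X ⟶ Y)

theorem nz_comp {L : X.Modules} {E E' : Y.Modules} (ψ : E' ⟶ E)
    (φ : E ⟶ (Scheme.Modules.pushforward q).obj L) {U : Y.Opens} (e : Γ(E', U)) :
    nz q (ψ ≫ φ) e = nz q φ (ψ.app U e) := rfl

/-- The condition for `ψ ≫ φ` implies the condition for `φ`. -/
theorem va_of_comp {L : X.Modules} {E E' : Y.Modules} (ψ : E' ⟶ E)
    (φ : E ⟶ (Scheme.Modules.pushforward q).obj L) (h : VA q (ψ ≫ φ)) : VA q φ := by
  intro U hU x hx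
  obtain ⟨e, hxe, he⟩ := h U hU x hx
  refine ⟨ψ.app U e, hxe, ?_⟩
  have he' : HImm (nz q φ (ψ.app U e)) (ratioRing q (ψ ≫ φ) e) := he
  refine he'.mono ?_
  refine Subring.closure_le.mpr ?_
  rintro b (⟨a, rfl⟩ | ⟨t, ht⟩)
  · exact app_mem_ratioRing q φ _ a
  · exact ratio_mem_ratioRing q φ _ (ψ.app U t) ht

/-- If the condition holds for some `φ`, it holds for `E = q_* L`. -/
theorem va_id {L : X.Modules} {E : Y.Modules}
    (φ : E ⟶ (Scheme.Modules.pushforward q).obj L) (h : VA q φ) :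
    VA q (𝟙 ((Scheme.Modules.pushforward q).obj L)) := by
  refine va_of_comp q φ _ ?_
  rwa [Category.comp_id]

/-- For an affine morphism the structure sheaf is very ample. -/
theorem va_of_isAffineHom [IsAffineHom q] :
    VA q (𝟙 ((Scheme.Modules.pushforward q).obj (Coh.structureModule X))) := by
  intro U hU x hx
  let e : Γ((Scheme.Modules.pushforward q).obj (Coh.structureModule X), U) := one (q ⁻¹ᵁ U)
  have h1 : nz q (𝟙 ((Scheme.Modules.pushforward q).obj (Coh.structureModule X))) e = q ⁻¹ᵁ U := by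
    refine le_antisymm (nz_le _ _ _) ?_
    rw [nz, le_nv_iff _ _ le_rfl, res_refl]
    exact isGen_one (q ⁻¹ᵁ U)
  refine ⟨e, by rw [h1]; exact hx, ?_⟩
  have h2 := (HImm.of_affine (hU.preimage q))
  refine (himm_congr h1 _ _ (fun b _ => ?_) h2)
  refine ratio_mem_ratioRing q _ e (ofFun b) ?_
  change res _ _ (ofFun b) = _ • res _ _ (one (q ⁻¹ᵁ U))
  rw [res_one, res_ofFun, ofFun_eq_smul]

theorem isQCoh_push [QuasiCompact q] [QuasiSeparated q] {L : X.Modules} (hL : Coh.IsQCoh L) :
    Coh.IsQCoh ((Scheme.Modules.pushforward q).obj L) :=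
  Groth.Agent.Ega1.QcqsPush.isQCoh_pushforward q L hL

/-- The direct image of the structure sheaf along a finite morphism is of finite type. -/
theorem isFT_push [IsFinite q] :
    CohB1.IsFT ((Scheme.Modules.pushforward q).obj (Coh.structureModule X)) := by
  have hq : Coh.IsQCoh ((Scheme.Modules.pushforward q).obj (Coh.structureModule X)) :=
    isQCoh_push q (Groth.Agent.Fdesc.StructMod.isQCoh_structureModule X)
  refine Groth.Agent.CohqB.FiniteType2.isFT_of_finite_sections _ fun y => ?_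
  obtain ⟨_, ⟨V, hV, rfl⟩, hyV, -⟩ :=
    Y.isBasis_affineOpens.exists_subset_of_mem_open (Set.mem_univ y) isOpen_univ
  refine ⟨V, hyV, hV, ?_⟩
  have hfin : (q.app V).hom.Finite := IsFinite.finite_app (f := q) V hV
  let _ : Algebra Γ(Y, V) Γ(X, q ⁻¹ᵁ V) := (q.app V).hom.toAlgebra
  have h1 : Module.Finite Γ(Y, V) Γ(X, q ⁻¹ᵁ V) := hfin
  let g : Γ(X, q ⁻¹ᵁ V) →ₗ[Γ(Y, V)] Γ((Scheme.Modules.pushforward q).obj (Coh.structureModule X), V) :=
    { toFun := fun b => (ofFun b : Γ(Coh.structureModule X, q ⁻¹ᵁ V))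
      map_add' := fun a b => rfl
      map_smul' := fun a b => rfl }
  exact Module.Finite.of_surjective g fun b => ⟨ofFun.symm b, rfl⟩

end K34.FinVA
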