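import Groth.Agent.RelProj.K823.Criterion
import Groth.Agent.EGA2.K34.FinVA
import Groth.Agent.Ega2.AmpleUnit

/-!
# Projectivity from very ampleness data: `E` of finite type, `E = q_* L`, finite morphisms
-/

set_option autoImplicit false
universe u
open CategoryTheory CategoryTheory.Limits AlgebraicGeometry TopologicalSpace Opposite

namespace K34.ProjCrit

open K43.VADef

variable {X Y : Scheme.{u}} (q : X ⟶ Y)

/-- `VA` with `E` quasi-coherent of finite type and `q` universally closed. -/
theorem isProjective_of_va [UniversallyClosed q] {L : X.Modules} (hL : PicF.IsInvertible L)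
    {E : Y.Modules} (hE : Coh.IsQCoh E) (hE' : CohB1.IsFT E)
    (φ : E ⟶ (Scheme.Modules.pushforward q).obj L) (h : VA q φ) : RelProj.IsProjective q := by
  refine K823.Criterion.isProjective_of_VA q φ hL hE (fun U hU => ?_) h
  have : Coh.IsQCoh E := hE
  exact Groth.Agent.CohqB.FiniteType2.finite_sections_of_isFT E hE' hU

/-- Finite morphisms are projective. -/
theorem isProjective_of_isFinite [IsFinite q] : RelProj.IsProjective q :=
  isProjective_of_va q Groth.Agent.Fdesc.LocGen.isInvertible_structureModule
    (FinVA.isQCoh_push q (Groth.Agent.Fdesc.StructMod.isQCoh_structureModule X)) (FinVA.isFT_push q) _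
    (FinVA.va_of_isAffineHom q)

end K34.ProjCrit
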