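import Groth.Agent.VarietyA.ResMap
import Groth.Agent.Ega2.DVRFunctionField
import Mathlib.AlgebraicGeometry.Morphisms.Proper
import Mathlib.RingTheory.DiscreteValuationRing.TFAE

/-!
# Local rings of integral schemes as subrings of the function field

* `eq_of_range_eq`: a point of a separated integral scheme is determined by its local ring (as a
  subring of the function field).
* `exists_point_of_proper`: on a proper integral `k`-scheme every valuation ring of the function
  field containing `k` dominates the local ring of a point.
-/

set_option autoImplicit false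

universe u

open CategoryTheory CategoryTheory.Limits AlgebraicGeometry IsLocalRing TopologicalSpace

namespace K34.CurveVal

open Groth.Agent.Ega2.DVRFunctionField

/-- A point of a separated integral scheme is determined by its local ring. -/
theorem eq_of_range_eq {X : Scheme.{u}} [IsIntegral X] [X.IsSeparated]
    (R : ValuationSubring X.functionField) {x x' : X}
    (hx : (R : Set X.functionField) = Set.range (algebraMap (X.presheaf.stalk x) X.functionField))
    (hx' : (R : Set X.functionField) =
      Set.range (algebraMap (X.presheaf.stalk x') X.functionField)) : x = x' := by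
  have key : ∀ (y : X) (hy : (R : Set X.functionField) =
      Set.range (algebraMap (X.presheaf.stalk y) X.functionField)),
      ∃ l : Spec (CommRingCat.of R) ⟶ X, l (closedPoint R) = y ∧
        Spec.map (CommRingCat.ofHom (algebraMap R X.functionField)) ≫ l =
          X.fromSpecStalk (genericPoint X) := by
    intro y hy
    have hmem : ∀ a : X.presheaf.stalk y,
        algebraMap (X.presheaf.stalk y) X.functionField a ∈ R := by
      intro a
      have h1 : algebraMap (X.presheaf.stalk y) X.functionField a ∈
        (R : Set X.functionField) := by
        rw [hy]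
        exact ⟨a, rfl⟩
      exact h1
    let φ : X.presheaf.stalk y →+* R :=
      (algebraMap (X.presheaf.stalk y) X.functionField).codRestrict R.toSubring hmem
    have hinj : Function.Injective φ := by
      intro a b hab
      exact IsFractionRing.injective (X.presheaf.stalk y) X.functionField (congrArg Subtype.val hab)
    have hsurj : Function.Surjective φ := by
      intro z
      have h1 : (z : X.functionField) ∈ (R : Set X.functionField) := z.2
      rw [hy] at h1
      obtain ⟨a, ha⟩ := h1
      exact ⟨a, Subtype.ext ha⟩
    let e : X.presheaf.stalk y ≃+* R := RingEquiv.ofBijective φ ⟨hinj, hsurj⟩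
    have hloc : IsLocalHom φ := by
      constructor
      intro a ha
      have h1 : IsUnit (e a) := ha
      exact (MulEquiv.isUnit_map e).1 h1
    have hη : genericPoint X ⤳ y := (genericPoint_spec X).specializes trivial
    have hφ : CommRingCat.ofHom φ ≫ CommRingCat.ofHom (algebraMap R X.functionField) =
        X.presheaf.stalkSpecializes hη := rfl
    refine ⟨Spec.map (CommRingCat.ofHom φ) ≫ X.fromSpecStalk y, ?_, ?_⟩
    · have h2 : (Spec.map (CommRingCat.ofHom φ)) (closedPoint (CommRingCat.of R)) =
          closedPoint (X.presheaf.stalk y) := IsLocalRing.comap_closedPoint φ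
      have h3 : X.fromSpecStalk y ((Spec.map (CommRingCat.ofHom φ))
          (closedPoint (CommRingCat.of R))) = y := by
        rw [h2]
        exact Scheme.fromSpecStalk_closedPoint
      exact h3
    · rw [← Category.assoc, ← Spec.map_comp, hφ, Scheme.SpecMap_stalkSpecializes_fromSpecStalk]
  obtain ⟨l, hl1, hl2⟩ := key x hx
  obtain ⟨l', hl1', hl2'⟩ := key x' hx'
  have h : l = l' := hom_ext_of_fractionField (A := R) (K := X.functionField)
    Subtype.val_injective l l' (hl2.trans hl2'.symm)
  rw [← hl1, ← hl1', h]

/-- The local ring at the generic point is the whole function field. -/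
theorem algebraMap_surjective_of_eq {X : Scheme.{u}} [IsIntegral X] (x : X)
    (hx : x = genericPoint X) :
    Function.Surjective (algebraMap (X.presheaf.stalk x) X.functionField) := by
  have hη : genericPoint X ⤳ x := (genericPoint_spec X).specializes trivial
  have h : IsIso (X.presheaf.stalkSpecializes hη) :=
    (X.presheaf.stalkCongr (.of_eq hx)).isIso_hom
  exact (ConcreteCategory.bijective_of_isIso (X.presheaf.stalkSpecializes hη)).2

/-- On a proper integral `k`-scheme every valuation ring of the function field containing `k`
dominates the local ring of a point. -/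
theorem exists_point_of_proper (k : Type u) [Field k] (X : Scheme.{u})
    [X.Over (Spec (CommRingCat.of k))] [IsProper (X ↘ (Spec (CommRingCat.of k)))] [IsIntegral X]
    (R : ValuationSubring X.functionField)
    (hk : ∀ c : k, (Curv2.stalkMap k X (genericPoint X) c : X.functionField) ∈ R) :
    ∃ (x : X) (h : ∀ a, algebraMap (X.presheaf.stalk x) X.functionField a ∈ R),
      IsLocalHom ((algebraMap (X.presheaf.stalk x) X.functionField).codRestrict R.toSubring h) := by
  have hex : ValuativeCriterion.Existence (X ↘ (Spec (CommRingCat.of k))) := by
    have h : UniversallyClosed (X ↘ (Spec (CommRingCat.of k))) := inferInstance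
    rw [UniversallyClosed.eq_valuativeCriterion] at h
    exact h.1
  let kR : k →+* R := RingHom.codRestrict
    (Curv2.stalkMap k X (genericPoint X) : k →+* X.functionField) R.toSubring hk
  have hkR : CommRingCat.ofHom kR ≫ CommRingCat.ofHom (algebraMap R X.functionField) =
      CommRingCat.ofHom (Curv2.stalkMap k X (genericPoint X)) := rfl
  have comm : X.fromSpecStalk (genericPoint X) ≫ (X ↘ (Spec (CommRingCat.of k))) =
      Spec.map (CommRingCat.ofHom (algebraMap R X.functionField)) ≫
        Spec.map (CommRingCat.ofHom kR) :=
    (Groth.Agent.VarietyA.ResMap.specMap_stalkMap k X (genericPoint X)).symm.trans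
      ((congrArg Spec.map hkR).symm.trans (Spec.map_comp _ _))
  obtain ⟨⟨⟨l, hl1, hl2⟩⟩⟩ := hex (ValuativeCommSq.mk (f := X ↘ (Spec (CommRingCat.of k))) R
    X.functionField (X.fromSpecStalk (genericPoint X)) (Spec.map (CommRingCat.ofHom kR)) ⟨comm⟩)
  change Spec (CommRingCat.of R) ⟶ X at l
  change Spec.map (CommRingCat.ofHom (algebraMap R X.functionField)) ≫ l =
    X.fromSpecStalk (genericPoint X) at hl1
  set x : X := l (closedPoint R) with hx
  let st : X.presheaf.stalk x ⟶ CommRingCat.of R :=
    Scheme.stalkClosedPointTo (R := CommRingCat.of R) l
  have hst : Spec.map st ≫ X.fromSpecStalk x = l :=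
    Scheme.Spec_stalkClosedPointTo_fromSpecStalk (R := CommRingCat.of R) l
  have hstloc : IsLocalHom st.hom :=
    Scheme.isLocalHom_stalkClosedPointTo (R := CommRingCat.of R) l
  have hη : genericPoint X ⤳ x := (genericPoint_spec X).specializes trivial
  have key : X.presheaf.stalkSpecializes hη = st ≫ CommRingCat.ofHom (algebraMap R X.functionField) := by
    have h1 : Spec.map (X.presheaf.stalkSpecializes hη) ≫ X.fromSpecStalk x =
        Spec.map (st ≫ CommRingCat.ofHom (algebraMap R X.functionField)) ≫ X.fromSpecStalk x := by
      rw [Scheme.SpecMap_stalkSpecializes_fromSpecStalk, ← hl1, ← hst, Spec.map_comp,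
        Category.assoc]
    rw [cancel_mono] at h1
    exact Spec.map_injective h1
  have hval : ∀ a, algebraMap (X.presheaf.stalk x) X.functionField a = (st.hom a : X.functionField) :=
    fun a => congr($(key).hom a)
  have hmem : ∀ a, algebraMap (X.presheaf.stalk x) X.functionField a ∈ R := fun a => by
    rw [hval]
    exact (st.hom a).2
  refine ⟨x, hmem, ?_⟩
  have he : (algebraMap (X.presheaf.stalk x) X.functionField).codRestrict R.toSubring hmem = st.hom :=
    RingHom.ext fun a => Subtype.ext (hval a)
  exact he.symm ▸ hstloc

end K34.CurveVal
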