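import Groth.Agent.EGA2.K34.FtSub
import Groth.Agent.EGA2.K34.AmpleCrit
import Groth.Agent.Fdesc.QCohStalk
import Groth.Agent.CurvesC.GGSec
import Groth.Agent.Ega1.QcqsPush

/-!
# Local generation by sections over an open; quotients of pullbacks of finite type modules

* `GenOn M S`: the sections `S ⊆ Γ(M, U)` generate `M` over `U`.
* `exists_finite`: finitely many of them do, if `M` is of finite type and `U` quasi-compact.
* `genOn_univ_of_isGloballyGenerated`: global generation of `M|_U`.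
* `epi_of_genOn`, `exists_quot`: `M` of finite type on `Y` generated over the preimages `g⁻¹ V` of a cover is a
  quotient of `g^* F`, `F` quasi-coherent of finite type on the qcqs scheme `Z`.
-/

set_option autoImplicit false
universe u
open CategoryTheory CategoryTheory.Limits AlgebraicGeometry TopologicalSpace Opposite

namespace K34.GenOn

open Groth.Agent.Fdesc.LocGen

variable {X Y Z : Scheme.{u}}

/-- The sections in `S` generate `M` over `U`. -/
def GenOn (M : X.Modules) {U : X.Opens} (S : Set Γ(M, U)) : Prop :=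
  ∀ x ∈ U, ∃ (W : X.Opens) (hW : W ≤ U), x ∈ W ∧ IsAffineOpen W ∧
    Submodule.span Γ(X, W) (res M hW '' S) = ⊤

theorem GenOn.mono {M : X.Modules} {U : X.Opens} {S T : Set Γ(M, U)} (h : GenOn M S) (hST : S ⊆ T) :
    GenOn M T := by
  intro x hx
  obtain ⟨W, hW, hxW, hWa, hs⟩ := h x hx
  refine ⟨W, hW, hxW, hWa, ?_⟩
  rw [eq_top_iff, ← hs]
  exact Submodule.span_mono (Set.image_mono hST)

/-- Restriction of a span. -/
theorem res_mem_span {M : X.Modules} {U V W : X.Opens} (S : Set Γ(M, U)) (hV : V ≤ U) (hW : W ≤ V)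
    {t : Γ(M, V)} (ht : t ∈ Submodule.span Γ(X, V) (res M hV '' S)) :
    res M hW t ∈ Submodule.span Γ(X, W) (res M (hW.trans hV) '' S) := by
  induction ht using Submodule.span_induction with
  | mem x hx =>
    obtain ⟨s, hs, rfl⟩ := hx
    rw [res_res]
    exact Submodule.subset_span ⟨s, hs, rfl⟩
  | zero => rw [map_zero]; exact Submodule.zero_mem _
  | add x y hx hy ihx ihy => rw [map_add]; exact Submodule.add_mem _ ihx ihy
  | smul a x hx ihx => rw [res_smul]; exact Submodule.smul_mem _ _ ihx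

/-- Over an affine open, generation passes to basic opens. -/
theorem span_basicOpen {M : X.Modules} (hM : Coh.IsQCoh M) {U W : X.Opens} (S : Set Γ(M, U)) (hW : W ≤ U)
    (hWa : IsAffineOpen W) (h : Submodule.span Γ(X, W) (res M hW '' S) = ⊤) (f : Γ(X, W)) :
    Submodule.span Γ(X, X.basicOpen f) (res M ((X.basicOpen_le f).trans hW) '' S) = ⊤ := by
  rw [eq_top_iff]
  intro t _
  obtain ⟨n, m, hm⟩ := Groth.Agent.Fdesc.QCohStalk.exists_map_eq_pow_smul M hWa hM f t
  have h1 : m ∈ Submodule.span Γ(X, W) (res M hW '' S) := by rw [h]; trivial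
  have h2 := res_mem_span S hW (X.basicOpen_le f) h1
  have h3 : res M (X.basicOpen_le f) m = (ores (X.basicOpen_le f) f) ^ n • t := hm
  obtain ⟨u, hu⟩ : IsUnit ((ores (X.basicOpen_le f) f) ^ n) :=
    IsUnit.pow n (RingedSpace.isUnit_res_basicOpen _ f)
  have h4 : t = (↑u⁻¹ : Γ(X, X.basicOpen f)) • res M (X.basicOpen_le f) m := by
    rw [h3, ← hu, smul_smul, Units.inv_mul, one_smul]
  rw [h4]
  exact Submodule.smul_mem _ _ h2

/-- Local surjectivity. -/
theorem GenOn.exists_mem_span {M : X.Modules} (hM : Coh.IsQCoh M) {U : X.Opens} {S : Set Γ(M, U)}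
    (h : GenOn M S) {V : X.Opens} (hV : V ≤ U) (t : Γ(M, V)) {x : X} (hx : x ∈ V) :
    ∃ (W : X.Opens) (hW : W ≤ V), x ∈ W ∧
      res M hW t ∈ Submodule.span Γ(X, W) (res M (hW.trans hV) '' S) := by
  obtain ⟨W, hW, hxW, hWa, hs⟩ := h x (hV hx)
  obtain ⟨f, hf, hxf⟩ := hWa.exists_basicOpen_le ⟨x, hx⟩ hxW
  refine ⟨X.basicOpen f, hf, hxf, ?_⟩
  rw [span_basicOpen hM S hW hWa hs f]
  trivial

/-- Finitely many sections suffice. -/
theorem GenOn.exists_finite {M : X.Modules} (hM : Coh.IsQCoh M) (hM' : CohB1.IsFT M) {U : X.Opens}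
    (hU : IsCompact (U : Set X)) {S : Set Γ(M, U)} (h : GenOn M S) :
    ∃ T : Set Γ(M, U), T ⊆ S ∧ T.Finite ∧ GenOn M T := by
  classical
  choose W hW hxW hWa hs using fun x : U => h x.1 x.2
  obtain ⟨t, ht⟩ := hU.elim_finite_subcover (fun x : U => ((W x : X.Opens) : Set X))
    (fun x => (W x).isOpen) (fun x hx => Set.mem_iUnion.2 ⟨⟨x, hx⟩, hxW _⟩)
  have key : ∀ x : U, ∃ T : Set Γ(M, U), T ⊆ S ∧ T.Finite ∧
      Submodule.span Γ(X, W x) (res M (hW x) '' T) = ⊤ := by
    intro x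
    have h2 := (Groth.Agent.CohqB.FiniteType2.finite_sections_of_isFT M hM' (hWa x)).fg_top
    rw [← hs x] at h2
    obtain ⟨s', hs', hss'⟩ := (Submodule.fg_span_iff_fg_span_finset_subset _).mp h2
    obtain ⟨T, hT, hT'⟩ := Finset.subset_set_image_iff.mp hs'
    refine ⟨T, hT, T.finite_toSet, ?_⟩
    rw [← hs x, hss', ← hT', Finset.coe_image]
  choose T hTS hTf hT using key
  refine ⟨⋃ x ∈ t, T x, Set.iUnion₂_subset fun x _ => hTS x,
    t.finite_toSet.biUnion fun x _ => hTf x, ?_⟩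
  intro x hx
  obtain ⟨y, hy, hxy⟩ := Set.mem_iUnion₂.1 (ht hx)
  refine ⟨W y, hW y, hxy, hWa y, ?_⟩
  rw [eq_top_iff, ← hT y]
  exact Submodule.span_mono (Set.image_mono (Set.subset_biUnion_of_mem (u := T) hy))

/-- Global generation of the restriction to `U`, in terms of sections over `U`. -/
theorem genOn_univ_of_isGloballyGenerated {M : X.Modules} (hM : Coh.IsQCoh M) (U : X.Opens)
    (h : Curv2.IsGloballyGenerated (M.restrict U.ι)) : GenOn M (Set.univ : Set Γ(M, U)) := by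
  obtain ⟨ι, e, he⟩ := Groth.Agent.CurvesC.GGSec.exists_sections_of_isGloballyGenerated h
  intro x hx
  obtain ⟨_, ⟨V, hV, rfl⟩, hxV, -⟩ :=
    (U : Scheme.{u}).isBasis_affineOpens.exists_subset_of_mem_open
      (Set.mem_univ (⟨x, hx⟩ : U)) isOpen_univ
  have h1 := Groth.Agent.CurvesC.GGSec.spanOn_eq_top
    (Groth.Agent.Fdesc.QCohStalk.restrict_isQCoh M hM U.ι) he hV
  have hle : U.ι ''ᵁ V ≤ U := (U.ι.image_le_opensRange V).trans U.opensRange_ι.le
  refine ⟨U.ι ''ᵁ V, hle, ⟨⟨x, hx⟩, hxV, rfl⟩, hV.image_of_isOpenImmersion _, ?_⟩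
  rw [eq_top_iff]
  intro t _
  have h2 : toRestrict U.ι t ∈ Groth.Agent.CurvesC.GGSec.spanOn (M.restrict U.ι) e V := by
    rw [h1]; trivial
  obtain ⟨t', ht'⟩ : ∃ t', toRestrict U.ι t = t' := ⟨_, rfl⟩
  rw [ht'] at h2
  have h3 : t = (toRestrict U.ι).symm t' := by rw [← ht', AddEquiv.symm_apply_apply]
  rw [h3]
  clear h3 ht'
  unfold Groth.Agent.CurvesC.GGSec.spanOn at h2
  induction h2 using Submodule.span_induction with
  | mem y hy =>
    obtain ⟨i, rfl⟩ := hy
    refine Submodule.subset_span ⟨res M U.ι_image_top.ge ((toRestrict U.ι).symm (e i)), trivial, ?_⟩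
    rw [res_res]
    rfl
  | zero => rw [map_zero]; exact Submodule.zero_mem _
  | add y z hy hz ihy ihz => rw [map_add]; exact Submodule.add_mem _ ihy ihz
  | smul a y hy ihy =>
    rw [toRestrict_symm_smul]
    exact Submodule.smul_mem _ _ ihy

/-- A morphism adjoint to `ψ : F ⟶ g_* M` is an epimorphism as soon as the image of `ψ` contains generating
sections over the members of a cover. -/
theorem epi_of_genOn (g : Y ⟶ Z) {F : Z.Modules} {M : Y.Modules} (hM : Coh.IsQCoh M)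
    (ψ : F ⟶ (Scheme.Modules.pushforward g).obj M)
    (h : ∀ y : Y, ∃ (V : Z.Opens) (S : Set Γ(M, g ⁻¹ᵁ V)), y ∈ g ⁻¹ᵁ V ∧ GenOn M S ∧
      ∀ s ∈ S, ∃ f : Γ(F, V), ψ.app V f = s) :
    Epi (((Scheme.Modules.pullbackPushforwardAdjunction g).homEquiv F M).symm ψ) := by
  refine Groth.Agent.PerfB.ModExact.epi_of_locally_surjective _ fun U t y hy => ?_
  obtain ⟨V, S, hyV, hS, hSF⟩ := h y
  obtain ⟨W, hW, hyW, hmem⟩ := hS.exists_mem_span hM (V := U ⊓ g ⁻¹ᵁ V) inf_le_right
    (res M inf_le_left t) (show y ∈ U ⊓ g ⁻¹ᵁ V from ⟨hy, hyV⟩)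
  rw [res_res] at hmem
  obtain ⟨φ, hφ⟩ : ∃ φ, ((Scheme.Modules.pullbackPushforwardAdjunction g).homEquiv F M).symm ψ = φ :=
    ⟨_, rfl⟩
  have hψ : ψ = (Scheme.Modules.pullbackPushforwardAdjunction g).homEquiv F M φ := by
    rw [← hφ, Equiv.apply_symm_apply]
  rw [hφ]
  refine ⟨W, hW.trans inf_le_left, hyW, ?_⟩
  have key : ∀ v ∈ Submodule.span Γ(Y, W) (res M (hW.trans inf_le_right) '' S),
      ∃ z, φ.app W z = v := by
    intro v hv
    induction hv using Submodule.span_induction with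
    | mem v hv =>
      obtain ⟨s, hs, rfl⟩ := hv
      obtain ⟨f, hf⟩ := hSF s hs
      refine ⟨res _ (hW.trans inf_le_right) (pullSec g f), ?_⟩
      rw [app_res, ← homEquiv_app, ← hψ]
      exact congrArg (res M _) hf
    | zero => exact ⟨0, map_zero _⟩
    | add v w _ _ ihv ihw =>
      obtain ⟨z, rfl⟩ := ihv
      obtain ⟨z', rfl⟩ := ihw
      exact ⟨z + z', map_add _ _ _⟩
    | smul a v _ ihv =>
      obtain ⟨z, rfl⟩ := ihv
      exact ⟨a • z, Scheme.Modules.Hom.app_smul φ a z⟩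
  exact key _ hmem

/-- A quasi-coherent module of finite type on `Y` generated over the `g⁻¹ V` by its sections is a quotient of the
pullback of a quasi-coherent module of finite type on `Z`. -/
theorem exists_quot [CompactSpace Z] [QuasiSeparatedSpace Z] (g : Y ⟶ Z) [QuasiCompact g] [QuasiSeparated g]
    {M : Y.Modules} (hM : Coh.IsQCoh M) (hM' : CohB1.IsFT M)
    (h : ∀ z : Z, ∃ V : Z.Opens, z ∈ V ∧ IsAffineOpen V ∧ GenOn M (Set.univ : Set Γ(M, g ⁻¹ᵁ V))) :
    ∃ (F : Z.Modules) (φ : (Scheme.Modules.pullback g).obj F ⟶ M),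
      Coh.IsQCoh F ∧ CohB1.IsFT F ∧ Epi φ := by
  choose V hzV hV hg using h
  choose T _ hT hTg using fun z => (hg z).exists_finite hM hM' (g.isCompact_preimage (hV z).isCompact)
  obtain ⟨t, ht⟩ := isCompact_univ.elim_finite_subcover (fun z : Z => ((V z : Z.Opens) : Set Z))
    (fun z => (V z).isOpen) (fun z _ => Set.mem_iUnion.2 ⟨z, hzV z⟩)
  let ι := Σ z : t, T z.1
  have : ∀ z, Finite (T z) := fun z => (hT z)
  obtain ⟨F, j, -, hF, hF', hj⟩ := FtSub.exists_ft_sub (G := (Scheme.Modules.pushforward g).obj M)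
    (Groth.Agent.Ega1.QcqsPush.isQCoh_pushforward g M hM) (ι := ι) (fun i => V i.1.1) (fun i => hV _)
    (fun i => (i.2.1 : Γ(M, g ⁻¹ᵁ (V i.1.1))))
  refine ⟨F, ((Scheme.Modules.pullbackPushforwardAdjunction g).homEquiv F M).symm j, hF, hF', ?_⟩
  refine epi_of_genOn g hM j fun y => ?_
  obtain ⟨z, hz, hyz⟩ := Set.mem_iUnion₂.1 (ht (Set.mem_univ (g y)))
  refine ⟨V z, T z, hyz, hTg z, fun s hs => ?_⟩
  exact hj ⟨⟨z, hz⟩, ⟨s, hs⟩⟩

end K34.GenOn
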