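import Groth.Agent.Ega2.NormCurve
import Groth.Agent.Sga3C.DimTop
import Groth.Agent.VarietyB.DimSch
import Groth.Agent.VarietyB.NormalizationVar
import Groth.Agent.VarietyB.FinNormField
import Mathlib.AlgebraicGeometry.FunctionField
import Groth.Prelude.Def_Pi1

/-!
# The normalization of an integral scheme in an extension of its function field
-/

set_option autoImplicit false
set_option linter.style.haveILetI false

universe u

open CategoryTheory CategoryTheory.Limits AlgebraicGeometry TopologicalSpace

namespace K34.NormExt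

open Groth.Agent.Ega2.NormChart Groth.Agent.Ega2.NormCurve

/-- A domain inside a field `K` which contains all elements of `K` integral over it is integrally
closed. -/
theorem isIntegrallyClosed_of_field {B K : Type*} [CommRing B] [IsDomain B] [Field K] (j : B →+* K)
    (hj : Function.Injective j) (h : ∀ x : K, j.IsIntegralElem x → x ∈ j.range) :
    IsIntegrallyClosed B := by
  rw [isIntegrallyClosed_iff (FractionRing B)]
  intro x hx
  let J : FractionRing B →+* K := IsFractionRing.lift (A := B) (K := FractionRing B) hj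
  have hJ : ∀ b, J (algebraMap B (FractionRing B) b) = j b := fun b =>
    IsFractionRing.lift_algebraMap hj b
  have h1 : j.IsIntegralElem (J x) := by
    have h2 := RingHom.IsIntegralElem.map (f := algebraMap B (FractionRing B)) hx J
    convert h2 using 1
    exact (RingHom.ext hJ).symm
  obtain ⟨b, hb⟩ := h _ h1
  exact ⟨b, J.injective (by rw [hJ, hb])⟩

section

variable {X : Scheme.{u}} [IsIntegral X] (K : Type u) [Field K] (φ : X.functionField →+* K)

/-- The morphism `Spec K ⟶ X` through the generic point. -/
noncomputable abbrev gen : Spec (CommRingCat.of K) ⟶ X :=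
  Spec.map (CommRingCat.ofHom φ) ≫ X.fromSpecStalk (genericPoint X)

theorem preimage_gen_eq_top (U : X.Opens) [hne : Nonempty U] : (gen K φ) ⁻¹ᵁ U = ⊤ := by
  have h := Groth.Agent.VarietyB.NormalizationVar.preimage_gen_eq_top X U
  change (Spec.map (CommRingCat.ofHom φ)) ⁻¹ᵁ ((X.fromSpecStalk (genericPoint X)) ⁻¹ᵁ U) = ⊤
  have h' : (X.fromSpecStalk (genericPoint X)) ⁻¹ᵁ U = ⊤ := h
  rw [h']
  rfl

theorem isDominant_gen : IsDominant (gen K φ) := by
  constructor
  have h2 : genericPoint X ∈ Set.range (gen K φ) := by
    refine ⟨IsLocalRing.closedPoint K, ?_⟩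
    have h3 : (Spec.map (CommRingCat.ofHom φ)) (IsLocalRing.closedPoint K) =
      IsLocalRing.closedPoint X.functionField := Subsingleton.elim _ _
    change X.fromSpecStalk (genericPoint X) ((Spec.map (CommRingCat.ofHom φ)) (IsLocalRing.closedPoint K)) = _
    rw [h3]
    exact Scheme.fromSpecStalk_closedPoint
  have h3 : Dense ({genericPoint X} : Set X) := by
    rw [dense_iff_closure_eq]
    exact (genericPoint_spec X).def
  exact h3.mono (Set.singleton_subset_iff.mpr h2)

/-- A morphism `Spec K ⟶ P` landing in the affine open `U` is determined by `toK`. -/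
theorem specMap_toK {P : Scheme.{u}} (f : Spec (CommRingCat.of K) ⟶ P) {U : P.Opens}
    (hU : IsAffineOpen U) (h : f ⁻¹ᵁ U = ⊤) :
    Spec.map (CommRingCat.ofHom (toK f U h)) ≫ hU.fromSpec = f := by
  have h1 : CommRingCat.ofHom (toK f U h) =
    (f.appLE U ⊤ (by rw [h])) ≫ (Scheme.ΓSpecIso (CommRingCat.of K)).hom := rfl
  rw [h1, Spec.map_comp, Category.assoc,
    IsAffineOpen.SpecMap_appLE_fromSpec f hU (isAffineOpen_top (Spec (CommRingCat.of K)))]
  rw [← Category.assoc]
  convert Category.id_comp f using 2
  rw [IsAffineOpen.fromSpec_top, ← Scheme.isoSpec_Spec_hom]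
  exact Iso.hom_inv_id _

/-- `toK` for the morphism through the generic point. -/
theorem toK_gen {U : X.Opens} (hU : IsAffineOpen U) [hne : Nonempty U]
    (h : (gen K φ) ⁻¹ᵁ U = ⊤) :
    toK (gen K φ) U h = φ.comp (X.germToFunctionField U).hom := by
  have hξ : genericPoint X ∈ U :=
    ((genericPoint_spec X).mem_open_set_iff U.isOpen).mpr (by simpa using hne)
  have h1 := specMap_toK K (gen K φ) hU h
  have h2 : Spec.map (CommRingCat.ofHom (φ.comp (X.germToFunctionField U).hom)) ≫ hU.fromSpec =
      gen K φ := by
    have h3 := hU.fromSpecStalk_eq_fromSpecStalk hξ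
    rw [IsAffineOpen.fromSpecStalk] at h3
    have h4 : Spec.map (CommRingCat.ofHom (φ.comp (X.germToFunctionField U).hom)) =
      Spec.map (CommRingCat.ofHom φ) ≫ Spec.map (X.presheaf.germ U _ hξ) :=
      Spec.map_comp (X.presheaf.germ U _ hξ) (CommRingCat.ofHom φ)
    rw [gen, ← h3, h4, Category.assoc]
  have h3 := h1.trans h2.symm
  rw [cancel_mono] at h3
  have h4 := Spec.map_injective h3
  exact congrArg CommRingCat.Hom.hom h4

variable [QuasiCompact (gen K φ)] [QuasiSeparated (gen K φ)]

theorem isIntegrallyClosed_sections {U : X.Opens} (hU : IsAffineOpen U) [hne : Nonempty U] :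
    IsIntegrallyClosed Γ((gen K φ).normalization, (gen K φ).fromNormalization ⁻¹ᵁ U) := by
  have hfU := preimage_gen_eq_top K φ U
  have hinj := normToK_injective (gen K φ) U hfU hU
  have : IsDomain Γ((gen K φ).normalization, (gen K φ).fromNormalization ⁻¹ᵁ U) :=
    hinj.isDomain
  refine isIntegrallyClosed_of_field (normToK (gen K φ) U hfU) hinj fun x hx => ?_
  rw [mem_range_normToK (gen K φ) U hfU hU]
  let : Algebra Γ((gen K φ).normalization, (gen K φ).fromNormalization ⁻¹ᵁ U) K :=
    (normToK (gen K φ) U hfU).toAlgebra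
  letI : Algebra Γ(X, U) Γ((gen K φ).normalization, (gen K φ).fromNormalization ⁻¹ᵁ U) :=
    ((gen K φ).fromNormalization.app U).hom.toAlgebra
  letI : Algebra Γ(X, U) K := (toK (gen K φ) U hfU).toAlgebra
  haveI : IsScalarTower Γ(X, U)
      Γ((gen K φ).normalization, (gen K φ).fromNormalization ⁻¹ᵁ U) K :=
    IsScalarTower.of_algebraMap_eq' (normToK_comp (gen K φ) U hfU).symm
  haveI : Algebra.IsIntegral Γ(X, U)
      Γ((gen K φ).normalization, (gen K φ).fromNormalization ⁻¹ᵁ U) := by
    refine ⟨fun y => ?_⟩
    have h1 := (mem_range_normToK (gen K φ) U hfU hU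
      (normToK (gen K φ) U hfU y)).mp ⟨y, rfl⟩
    exact (isIntegral_algebraMap_iff
      (A := Γ((gen K φ).normalization, (gen K φ).fromNormalization ⁻¹ᵁ U)) (B := K) hinj).mp h1
  exact isIntegral_trans x hx

theorem isNormalScheme_normalization : Pi1.IsNormalScheme (gen K φ).normalization := by
  intro y
  refine ⟨inferInstance, ?_⟩
  obtain ⟨U, hU, hyU, -⟩ := exists_isAffineOpen_mem_and_subset (X := X)
    (x := (gen K φ).fromNormalization y) (U := ⊤) trivial
  have hne : Nonempty U := ⟨⟨_, hyU⟩⟩
  have hV : IsAffineOpen ((gen K φ).fromNormalization ⁻¹ᵁ U) := hU.preimage _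
  have hyV : y ∈ (gen K φ).fromNormalization ⁻¹ᵁ U := hyU
  have hneV : Nonempty ((gen K φ).fromNormalization ⁻¹ᵁ U) := ⟨⟨y, hyV⟩⟩
  have h2 := isIntegrallyClosed_sections K φ hU
  have h3 := hV.isLocalization_stalk ⟨y, hyV⟩
  let := TopCat.Presheaf.algebra_section_stalk (gen K φ).normalization.presheaf
    (⟨y, hyV⟩ : ((gen K φ).fromNormalization ⁻¹ᵁ U : (gen K φ).normalization.Opens))
  exact isIntegrallyClosed_of_isLocalization _ (hV.primeIdealOf ⟨y, hyV⟩).asIdeal.primeCompl
    (Ideal.primeCompl_le_nonZeroDivisors _)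

theorem isDominant_fromNormalization : IsDominant (gen K φ).fromNormalization := by
  have h1 := isDominant_gen K φ
  have h2 : IsDominant ((gen K φ).toNormalization ≫ (gen K φ).fromNormalization) := by
    rw [Scheme.Hom.toNormalization_fromNormalization]
    exact h1
  exact IsDominant.of_comp (gen K φ).toNormalization _

theorem surjective_fromNormalization : Surjective (gen K φ).fromNormalization := by
  have h1 := isDominant_fromNormalization K φ
  constructor
  rw [← Set.range_eq_univ]
  have h2 : IsClosed (Set.range (gen K φ).fromNormalization) := by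
    have := (gen K φ).fromNormalization.isClosedMap.isClosed_range
    exact this
  rw [← h2.closure_eq]
  exact h1.denseRange.closure_range

/-- The normalization of a scheme of finite type over a field in a finite extension of its function
field is finite. -/
theorem isFinite_fromNormalization (k : Type u) [Field k] [X.Over (Spec (CommRingCat.of k))]
    [LocallyOfFiniteType (X ↘ (Spec (CommRingCat.of k)))] (hφ : φ.Finite) :
    IsFinite (gen K φ).fromNormalization := by
  rw [isFinite_iff]
  refine ⟨inferInstance, fun U hU => ?_⟩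
  by_cases hne : Nonempty U
  · have hfU := preimage_gen_eq_top K φ U
    let : Algebra k Γ(X, U) := Groth.Agent.VarietyB.DimSch.secAlgebra k U
    have : Algebra.FiniteType k Γ(X, U) :=
      Groth.Agent.VarietyB.DimSch.toSections_finiteType k X hU
    let : Algebra X.functionField K := φ.toAlgebra
    have : FiniteDimensional X.functionField K := hφ
    let : Algebra Γ(X, U) K := (toK (gen K φ) U hfU).toAlgebra
    have : IsScalarTower Γ(X, U) X.functionField K :=
      IsScalarTower.of_algebraMap_eq' (toK_gen K φ hU hfU)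
    have : IsFractionRing Γ(X, U) X.functionField :=
      functionField_isFractionRing_of_isAffineOpen X U hU
    have hfin : Module.Finite Γ(X, U) (integralClosure Γ(X, U) K) :=
      Groth.Agent.VarietyB.FinNormField.finite_integralClosure_of_finiteType k Γ(X, U)
        X.functionField K
    let : Algebra Γ(X, U) Γ(Spec (CommRingCat.of K), (gen K φ) ⁻¹ᵁ U) :=
      ((gen K φ).app U).hom.toAlgebra
    let e : K ≃ₐ[Γ(X, U)] Γ(Spec (CommRingCat.of K), (gen K φ) ⁻¹ᵁ U) :=
      (AlgEquiv.ofRingEquiv (f := (sectIso (gen K φ) U hfU).commRingCatIsoToRingEquiv)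
        (fun r => congr($(app_sectIso (gen K φ) U hfU) r))).symm
    have hfin2 : Module.Finite Γ(X, U)
        (integralClosure Γ(X, U) Γ(Spec (CommRingCat.of K), (gen K φ) ⁻¹ᵁ U)) :=
      Module.Finite.equiv (AlgEquiv.mapIntegralClosure e).toLinearEquiv
    rw [Scheme.Hom.fromNormalization_app _ hU, CommRingCat.hom_comp]
    refine RingHom.Finite.comp ?_ ?_
    · exact RingHom.Finite.of_surjective _
        ((gen K φ).normalizationObjIso hU).symm.commRingCatIsoToRingEquiv.surjective
    · exact hfin2
  · have hbot : U = ⊥ := by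
      ext x
      simp only [TopologicalSpace.Opens.coe_bot, Set.mem_empty_iff_false, iff_false]
      intro hx
      exact hne ⟨⟨x, hx⟩⟩
    subst hbot
    have : Subsingleton Γ((gen K φ).normalization, (gen K φ).fromNormalization ⁻¹ᵁ ⊥) := by
      have e : (gen K φ).fromNormalization ⁻¹ᵁ ⊥ = ⊥ := rfl
      rw [e]
      infer_instance
    exact RingHom.Finite.of_surjective _ (fun y => ⟨0, Subsingleton.elim _ _⟩)

end

/-- For a finite surjective morphism of integral schemes of finite type over a field, the local rings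
at closed points have the same dimension. -/
theorem ringKrullDim_stalk_of_finite (k : Type u) [Field k] {X X' : Scheme.{u}}
    [X.Over (Spec (CommRingCat.of k))] [IsIntegral X] [IsIntegral X']
    [LocallyOfFiniteType (X ↘ (Spec (CommRingCat.of k)))] (π : X' ⟶ X) [IsFinite π] [Surjective π]
    (x' : X') (hx' : IsClosed ({x'} : Set X')) (x : X) (hx : IsClosed ({x} : Set X)) :
    ringKrullDim (X'.presheaf.stalk x') = ringKrullDim (X.presheaf.stalk x) := by
  let : X'.Over (Spec (CommRingCat.of k)) := ⟨π ≫ (X ↘ (Spec (CommRingCat.of k)))⟩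
  have hft : LocallyOfFiniteType (X' ↘ (Spec (CommRingCat.of k))) :=
    inferInstanceAs (LocallyOfFiniteType (π ≫ (X ↘ (Spec (CommRingCat.of k)))))
  have key : ∀ (Z : Scheme.{u}) [Z.Over (Spec (CommRingCat.of k))] [IsIntegral Z]
      [LocallyOfFiniteType (Z ↘ (Spec (CommRingCat.of k)))] (z : Z), IsClosed ({z} : Set Z) →
      ringKrullDim (Z.presheaf.stalk z) = topologicalKrullDim Z := by
    intro Z _ _ _ z hz
    have h1 := Groth.Agent.VarietyB.DimSch.localDim_eq k z
    rw [Groth.Agent.VarietyB.DimSch.trd_eq_zero_of_isClosed k hz,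
      Groth.Agent.VarietyB.DimSch.localDim_eq_of_irreducible k] at h1
    rw [Groth.Agent.VarietyB.DimSch.topologicalKrullDim_eq_trd k, h1]
    simp
  rw [key X' x' hx', key X x hx]
  exact Groth.Agent.Sga3C.DimTop.topologicalKrullDim_eq_of_isIntegralHom π

end K34.NormExt
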