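import Groth.Agent.RelProj.K823.Criterion
import Groth.Agent.EGA2.K35.RelProjBasic

/-!
# The morphism to the relative Proj of the image algebra is an open immersion with dense range

For `q : X ⟶ Y` quasi-compact, `L` invertible, `E` quasi-coherent, `φ : E ⟶ q_* L` with `VA q φ` and
`𝒮 = K823.Criterion.𝒮 q φ hL hE` (the algebra generated over `O_Y` by the image of `E` in the direct images of the
powers of `L`): `exists_openImm` gives `i : X ⟶ P = Proj(𝒮)` over `Y`, a dominant open immersion, with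
`(q⁻¹ U).ι ≫ i = chartMor U ≫ emb U`.
-/

set_option autoImplicit false
universe u

open CategoryTheory CategoryTheory.Limits AlgebraicGeometry TopologicalSpace Opposite
open HomogeneousLocalization

noncomputable section

namespace K34.OpenHalf

/-- A quasi-compact immersion to an affine scheme, injective on functions, is an open immersion. -/
theorem isOpenImmersion_of_injective {X Y : Scheme.{u}} [IsAffine Y] [CompactSpace X] (f : X ⟶ Y)
    [IsImmersion f] (h : Function.Injective f.appTop) : IsOpenImmersion f := by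
  have hk : f.ker = ⊥ := Scheme.IdealSheafData.ext_of_isAffine
    (by simpa [f.ker_apply ⟨⊤, isAffineOpen_top Y⟩, ← RingHom.injective_iff_ker_eq_bot])
  have : IsIso f.imageι := by simpa [Scheme.Hom.imageι, Scheme.Hom.image] using hk ▸ inferInstance
  rw [← f.toImage_imageι]
  infer_instance

open Groth.Agent.Fdesc.LocGen Groth.Agent.Ega2.Nv Groth.Agent.Ega2.ExtCoeff
open K823.SecRing K823.GrSub K823.GrLoc K823.SecFam K823.ToProj K823.ProjMor K43.VADef K823.ChartMor
open K823.ChartIso K823.ChartImm K43.HomImm K823.AffData K823.GrData K823.Criterion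

variable {X Y : Scheme.{u}} (q : X ⟶ Y) {L : X.Modules} {E : Y.Modules}
  (φ : E ⟶ (Scheme.Modules.pushforward q).obj L)

section ring

variable {U : Y.Opens}
  {A σ : Type u} [CommRing A] [SetLike σ A] [AddSubgroupClass σ A] {𝒜 : ℕ → σ}
  [GradedRing 𝒜] (Φ : A ≃+* AA q φ U) (hΦ : ∀ (d : ℕ) (a : A), a ∈ 𝒜 d ↔ Φ a ∈ GG q φ U d)
  (hcov : ∀ x ∈ q ⁻¹ᵁ U, ∃ e : Γ(E, U), x ∈ nz q φ e)

theorem isCompact_nz [QuasiCompact q] (hL : PicF.IsInvertible L) (hU : IsAffineOpen U) (e : Γ(E, U)) :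
    IsCompact ((nz q φ e : X.Opens) : Set X) := by
  have hloc : LocGen L (q ⁻¹ᵁ U) := by
    intro x hx
    obtain ⟨V, e, hxV, he⟩ := (isInvertible_iff L).mp hL x
    exact ⟨V ⊓ q ⁻¹ᵁ U, res L inf_le_left e, ⟨hxV, hx⟩, inf_le_right, he.res _⟩
  have h := isCompact_inf_nv hloc (se q φ e) (q.isCompact_preimage hU.isCompact) le_rfl
  rwa [inf_eq_right.2 (nv_le L (se q φ e))] at h

include hΦ in
/-- Over `D_+(e)` the morphism to `Proj` is a dominant open immersion. -/
theorem isOpenImmersion_nz [QuasiCompact q] (hL : PicF.IsInvertible L) (hU : IsAffineOpen U) (e : Γ(E, U))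
    (h : IsImmersion (K43.HomImm.mor (nz q φ e) (θ q φ 𝒜 Φ e))) :
    IsOpenImmersion (K43.HomImm.mor (nz q φ e) (θ q φ 𝒜 Φ e)) ∧
      IsDominant (K43.HomImm.mor (nz q φ e) (θ q φ 𝒜 Φ e)) := by
  have hc : CompactSpace (nz q φ e) := isCompact_iff_compactSpace.1 (isCompact_nz q φ hL hU e)
  have h1 : Function.Injective (K43.HomImm.mor (nz q φ e) (θ q φ 𝒜 Φ e)).appTop := by
    have h8 := Scheme.ΓSpecIso_inv_naturality (CommRingCat.ofHom (θ q φ 𝒜 Φ e))
    have h9 : (K43.HomImm.mor (nz q φ e) (θ q φ 𝒜 Φ e)).appTop =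
        (Scheme.ΓSpecIso _).hom ≫ CommRingCat.ofHom (θ q φ 𝒜 Φ e) ≫
          (nz q φ e).topIso.inv := by
      rw [K43.HomImm.mor, Scheme.Hom.comp_appTop, Scheme.Opens.toSpecΓ_appTop]
      rw [← Scheme.ΓSpecIso_naturality_assoc]
      rfl
    rw [h9]
    have b1 : Function.Bijective (Scheme.ΓSpecIso (CommRingCat.of (Away 𝒜 (hatA q φ Φ e)))).hom :=
      ConcreteCategory.bijective_of_isIso _
    have b2 : Function.Bijective (nz q φ e).topIso.inv :=
      ConcreteCategory.bijective_of_isIso _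
    exact b2.injective.comp ((θ_injective q φ Φ hΦ hL hU e).comp b1.injective)
  exact ⟨isOpenImmersion_of_injective _ h1, isDominant_of_of_appTop_injective h1⟩

/-- The morphism `q⁻¹ U ⟶ Proj` is a dominant open immersion. -/
theorem isOpenImmersion_mor [QuasiCompact q] (hL : PicF.IsInvertible L) (hU : IsAffineOpen U)
    (h : ∀ x ∈ q ⁻¹ᵁ U, At q φ U x) :
    IsOpenImmersion (K823.ChartIso.mor q φ Φ hΦ hcov) ∧ IsDominant (K823.ChartIso.mor q φ Φ hΦ hcov) := by
  have h1 : IsImmersion (K823.ChartIso.mor q φ Φ hΦ hcov) := isImmersion_mor q φ Φ hΦ hcov h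
  have h2 : ∀ e : Γ(E, U), IsImmersion (K43.HomImm.mor (nz q φ e) (θ q φ 𝒜 Φ e)) := fun e =>
    MorphismProperty.of_isPullback (P := @IsImmersion) (isPullback_mor q φ Φ hΦ hcov e).flip
      inferInstance
  have hcov' : ⨆ e : Γ(E, U),
      (Proj.awayι 𝒜 (hatA q φ Φ e) (hatA_mem q φ 𝒜 Φ hΦ e) one_pos).opensRange = ⊤ := by
    simp only [Proj.opensRange_awayι]
    exact iSup_basicOpen q φ Φ hΦ
  constructor
  · refine IsZariskiLocalAtTarget.of_iSup_eq_top (P := @IsOpenImmersion) _ hcov' fun e => ?_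
    obtain ⟨i⟩ := arrow_iso (isPullback_mor q φ Φ hΦ hcov e)
    rw [MorphismProperty.arrow_mk_iso_iff @IsOpenImmersion i]
    exact (isOpenImmersion_nz q φ Φ hΦ hL hU e (h2 e)).1
  · refine IsZariskiLocalAtTarget.of_iSup_eq_top (P := @IsDominant) _ hcov' fun e => ?_
    obtain ⟨i⟩ := arrow_iso (isPullback_mor q φ Φ hΦ hcov e)
    rw [MorphismProperty.arrow_mk_iso_iff @IsDominant i]
    exact (isOpenImmersion_nz q φ Φ hΦ hL hU e (h2 e)).2

end ring

variable [QuasiCompact q] (hL : PicF.IsInvertible L) (hE : Coh.IsQCoh E)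

omit [QuasiCompact q] in
theorem cov_of_va (hVA : VA q φ) (U : Y.Opens) (hU : IsAffineOpen U) (x : X) (hx : x ∈ q ⁻¹ᵁ U) :
    ∃ e : Γ(E, U), x ∈ nz q φ e := by
  obtain ⟨e, he, -⟩ := hVA U hU x hx
  exact ⟨e, he⟩

/-- The open immersion to the relative Proj of the image algebra. -/
theorem exists_openImm (hVA : VA q φ) {P : Scheme.{u}} {p : P ⟶ Y}
    {chart : ∀ (U : Y.Opens) (hU : IsAffineOpen U),
      ((p ⁻¹ᵁ U : P.Opens) : Scheme.{u}) ≅ Proj ((K823.Criterion.𝒮 q φ hL hE).deg U hU)}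
    (hP : RelProj.IsRelProj (K823.Criterion.𝒮 q φ hL hE) p chart) :
    ∃ i : X ⟶ P, IsOpenImmersion i ∧ IsDominant i ∧ i ≫ p = q ∧
      ∀ (U : Y.Opens) (hU : IsAffineOpen U),
        (q ⁻¹ᵁ U).ι ≫ i = chartMor q φ hL hE (cov_of_va q φ hVA) U hU ≫ RelProj.emb p chart U hU := by
  obtain ⟨i, hi⟩ := K36.GlueAff.exists_glue q
    (fun U hU => chartMor q φ hL hE (cov_of_va q φ hVA) U hU ≫ RelProj.emb p chart U hU)
    (fun U hU r => by
      rw [← Category.assoc, chartMor_res, Category.assoc, RelProj.map_res_emb hP])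
  have hip : i ≫ p = q := by
    refine K36.GlueAff.hom_ext q fun U hU => ?_
    rw [← Category.assoc, hi U hU, Category.assoc, K35.RelProjBasic.emb_p hP, chartMor_over]
  have hpb : ∀ U : Y.affineOpens, IsPullback (chartMor q φ hL hE (cov_of_va q φ hVA) U.1 U.2)
      (q ⁻¹ᵁ U.1).ι (RelProj.emb p chart U.1 U.2) i := by
    intro U
    refine IsOpenImmersion.isPullback _ _ _ _ (hi U.1 U.2) ?_
    rw [K35.RelProjBasic.opensRange_emb, Scheme.Opens.opensRange_ι, ← Scheme.Hom.comp_preimage, hip]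
  have hcov : ⨆ U : Y.affineOpens, (RelProj.emb p chart U.1 U.2).opensRange = ⊤ := by
    simp only [K35.RelProjBasic.opensRange_emb]
    rw [← Scheme.Hom.preimage_iSup, iSup_affineOpens_eq_top]
    rfl
  have h3 := fun U : Y.affineOpens => isOpenImmersion_mor q φ (Φ q φ hL hE U.1 U.2) (hΦ q φ hL hE U.1 U.2)
    (cov_of_va q φ hVA U.1 U.2) hL U.2 (hVA U.1 U.2)
  refine ⟨i, ?_, ?_, hip, hi⟩
  · refine IsZariskiLocalAtTarget.of_iSup_eq_top (P := @IsOpenImmersion) _ hcov fun U => ?_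
    obtain ⟨j⟩ := arrow_iso (hpb U)
    rw [MorphismProperty.arrow_mk_iso_iff @IsOpenImmersion j]
    exact (h3 U).1
  · refine IsZariskiLocalAtTarget.of_iSup_eq_top (P := @IsDominant) _ hcov fun U => ?_
    obtain ⟨j⟩ := arrow_iso (hpb U)
    rw [MorphismProperty.arrow_mk_iso_iff @IsDominant j]
    exact (h3 U).2

end K34.OpenHalf

end
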