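import Groth.Agent.EGA2.K34.OpenHalf
import Groth.Agent.EGA2.K35.UnivIso
import Groth.Agent.EGA2.K43.Piece
import Groth.Agent.EGA2.K36.QCAlgAff

/-!
# `L ≅ i^* O(1)` for the open immersion of `X` into the relative Proj of the image algebra
-/

set_option autoImplicit false
universe u

open CategoryTheory CategoryTheory.Limits AlgebraicGeometry TopologicalSpace Opposite
open HomogeneousLocalization

noncomputable section

namespace K34.OpenTwist

open Groth.Agent.Fdesc.LocGen Groth.Agent.Ega2.Nv Groth.Agent.Ega2.ExtCoeff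
open K823.SecRing K823.GrSub K823.GrLoc K823.SecFam K823.ToProj K823.ProjMor K43.VADef K823.ChartMor
open K823.ChartIso K823.ChartImm K43.HomImm K823.AffData K823.GrData K823.Criterion K43.CanMap

variable {X Y : Scheme.{u}} (q : X ⟶ Y) {L : X.Modules} {E : Y.Modules}
  (φ : E ⟶ (Scheme.Modules.pushforward q).obj L) [QuasiCompact q] (hL : PicF.IsInvertible L)
  (hE : Coh.IsQCoh E)

/-- The map on sections over an affine open. -/
def jU (U : Y.Opens) (hU : IsAffineOpen U) : Γ(E, U) →+ (K823.Criterion.𝒮 q φ hL hE).presheaf.obj (op U) where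
  toFun e := hatA q φ (Φ q φ hL hE U hU) e
  map_zero' := by
    have h : hat q φ (0 : Γ(E, U)) = 0 := by
      have := hat_add q φ (0 : Γ(E, U)) 0
      rw [add_zero] at this
      exact left_eq_add.mp this
    rw [hatA, h, map_zero]
  map_add' e e' := by rw [hatA, hatA, hatA, hat_add, map_add]

/-- The map `E ⟶ 𝒮`, with image `𝒮_1`. -/
theorem exists_j : ∃ j : E ⟶ (K823.Criterion.𝒮 q φ hL hE).toModule, ∀ (U : Y.Opens) (hU : IsAffineOpen U)
    (e : Γ(E, U)), jv j e = hatA q φ (Φ q φ hL hE U hU) e := by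
  refine K36.QCAlgAff.exists_mod_hom (M := E) (N := (K823.Criterion.𝒮 q φ hL hE).toModule)
    (fun U hU => (show Γ(E, U) →+ Γ((K823.Criterion.𝒮 q φ hL hE).toModule, U) from jU q φ hL hE U hU)) ?_ ?_
  · intro U hU r e
    change hatA q φ (Φ q φ hL hE U hU) (r • e) =
      ((K823.Criterion.𝒮 q φ hL hE).str.app (op U)).hom r * hatA q φ (Φ q φ hL hE U hU) e
    apply (Φ q φ hL hE U hU).injective
    rw [map_mul, Φ_str, hatA, hatA, RingEquiv.apply_symm_apply, RingEquiv.apply_symm_apply, hat_smul]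
  · intro U hU r e
    change hatA q φ (Φ q φ hL hE (Y.basicOpen r) (hU.basicOpen r)) (res E (Y.basicOpen_le r) e) =
      (K823.Criterion.𝒮 q φ hL hE).res hU (hU.basicOpen r) (Y.basicOpen_le r) (hatA q φ (Φ q φ hL hE U hU) e)
    apply (Φ q φ hL hE (Y.basicOpen r) (hU.basicOpen r)).injective
    rw [Φ_res, hatA, hatA, RingEquiv.apply_symm_apply, RingEquiv.apply_symm_apply, rr_hat]

theorem exists_hatA_eq {U : Y.Opens} (hU : IsAffineOpen U) {x : (K823.Criterion.𝒮 q φ hL hE).presheaf.obj (op U)}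
    (hx : x ∈ (K823.Criterion.𝒮 q φ hL hE).deg U hU 1) : ∃ e : Γ(E, U), hatA q φ (Φ q φ hL hE U hU) e = x := by
  rw [hΦ] at hx
  obtain ⟨e, he⟩ := (mem_one_iff (ρ q L U) (κ q φ U) (κ_add q φ U) (κ_smul q φ U)).mp
    ((Φ q φ hL hE U hU x).2 1)
  refine ⟨e, (Φ q φ hL hE U hU).injective ?_⟩
  rw [hatA, RingEquiv.apply_symm_apply, eq_mon_of_mem _ hx]
  apply Subtype.ext
  rw [hat, coe_mon, coe_mon, he]

variable {j : E ⟶ (K823.Criterion.𝒮 q φ hL hE).toModule}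
  (hj : ∀ (U : Y.Opens) (hU : IsAffineOpen U) (e : Γ(E, U)), jv j e = hatA q φ (Φ q φ hL hE U hU) e)

include hj in
theorem range_jv {U : Y.Opens} (hU : IsAffineOpen U) :
    Set.range (jv j (U := U)) = ((K823.Criterion.𝒮 q φ hL hE).deg U hU 1 : Set _) := by
  ext x
  constructor
  · rintro ⟨e, rfl⟩
    rw [hj U hU]
    exact hatA_mem q φ _ (Φ q φ hL hE U hU) (hΦ q φ hL hE U hU) e
  · intro hx
    obtain ⟨e, rfl⟩ := exists_hatA_eq q φ hL hE hU hx
    exact ⟨e, hj U hU e⟩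

include hj in
theorem pack_j : Pack j where
  mem U hU x := by
    have h : jv j x ∈ Set.range (jv j (U := U)) := ⟨x, rfl⟩
    rw [range_jv q φ hL hE hj hU] at h
    exact h
  mul_mem U hU c x := by
    have h0 : jv j x ∈ Set.range (jv j (U := U)) := ⟨x, rfl⟩
    rw [range_jv q φ hL hE hj hU] at h0
    have h1 := SetLike.mul_mem_graded (A := (K823.Criterion.𝒮 q φ hL hE).deg U hU) c.2 h0
    rw [zero_add] at h1
    have h2 : c.1 * jv j x ∈ Set.range (jv j (U := U)) := by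
      rw [range_jv q φ hL hE hj hU]; exact h1
    exact h2
  gen U hU := by
    apply K43.Piece.adjoin_eq_top
    rw [range_jv q φ hL hE hj hU]
    exact K823.Criterion.isGenDegOne q φ hL hE U hU

variable (hVA : VA q φ) {P : Scheme.{u}} {p : P ⟶ Y}
  {chart : ∀ (U : Y.Opens) (hU : IsAffineOpen U),
      ((p ⁻¹ᵁ U : P.Opens) : Scheme.{u}) ≅ Proj ((K823.Criterion.𝒮 q φ hL hE).deg U hU)}
  (hP : RelProj.IsRelProj (K823.Criterion.𝒮 q φ hL hE) p chart)
  {O1 : P.Modules}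
  {lam : ∀ (U : Y.Opens) (hU : IsAffineOpen U),
    O1 ⟶ (Scheme.Modules.pushforward (RelProj.emb p chart U hU)).obj
      (GrTwist.twist ((K823.Criterion.𝒮 q φ hL hE).deg U hU) 1)}
  (hO1 : RelProj.IsRelTwist (K823.Criterion.𝒮 q φ hL hE) p chart 1 O1 lam)
  {i : X ⟶ P} (hi : ∀ (U : Y.Opens) (hU : IsAffineOpen U),
        (q ⁻¹ᵁ U).ι ≫ i = chartMor q φ hL hE (OpenHalf.cov_of_va q φ hVA) U hU ≫ RelProj.emb p chart U hU)

include hi in
/-- The morphism `i` on `nz e`. -/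
theorem ι_comp {U : Y.Opens} (hU : IsAffineOpen U) (e : Γ(E, U)) :
    (nz q φ e).ι ≫ i = K43.HomImm.mor (nz q φ e) (θ q φ ((K823.Criterion.𝒮 q φ hL hE).deg U hU)
      (Φ q φ hL hE U hU) e) ≫
        Proj.awayι ((K823.Criterion.𝒮 q φ hL hE).deg U hU) (hatA q φ (Φ q φ hL hE U hU) e)
          (hatA_mem q φ _ (Φ q φ hL hE U hU) (hΦ q φ hL hE U hU) e) one_pos ≫ RelProj.emb p chart U hU := by
  rw [← Scheme.homOfLE_ι X (nz_le q φ e), Category.assoc, hi U hU, chartMor, ← Category.assoc,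
    homOfLE_mor', Category.assoc]

section general

/-- A morphism from an open subscheme into an affine open, through functions. -/
theorem ι_comp_eq {Q T : Scheme.{u}} (g : Q ⟶ T) {W : T.Opens} (hW : IsAffineOpen W) {D : Q.Opens}
    (h : D ≤ g ⁻¹ᵁ W) : D.ι ≫ g = D.toSpecΓ ≫ Spec.map (g.appLE W D h) ≫ hW.fromSpec := by
  rw [Scheme.Opens.toSpecΓ_SpecMap_appLE_assoc, IsAffineOpen.toSpecΓ_fromSpec, Scheme.Hom.resLE_comp_ι]

theorem awayι_comp {A σ : Type u} [CommRing A] [SetLike σ A] [AddSubgroupClass σ A] {𝒜 : ℕ → σ}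
    [GradedRing 𝒜] {f : A} {m : ℕ} (hf : f ∈ 𝒜 m) (hm : 0 < m) {T : Scheme.{u}} (g : Proj 𝒜 ⟶ T)
    {W : T.Opens} (hW : IsAffineOpen W) (h : Proj.basicOpen 𝒜 f ≤ g ⁻¹ᵁ W) :
    Proj.awayι 𝒜 f hf hm ≫ g = Spec.map (g.appLE W _ h ≫ (Proj.basicOpenIsoAway 𝒜 f hf hm).inv) ≫
      hW.fromSpec := by
  have h1 : (Proj.basicOpen 𝒜 f).toSpecΓ = (Proj.basicOpenIsoSpec 𝒜 f hf hm).hom ≫
      Spec.map (Proj.basicOpenIsoAway 𝒜 f hf hm).inv := by
    rw [Proj.basicOpenIsoSpec_hom, Proj.basicOpenToSpec, Category.assoc, ← Spec.map_comp,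
      ← Proj.basicOpenIsoAway_hom 𝒜 f hf hm, Iso.inv_hom_id, Spec.map_id, Category.comp_id]
  rw [← Proj.basicOpenIsoSpec_inv_ι, Category.assoc, ι_comp_eq g hW h, h1, Category.assoc,
    Iso.inv_hom_id_assoc, Spec.map_comp, Category.assoc]

end general

include hi in
/-- The map on functions of `i`, from `D_+(e)` to `nz e`. -/
theorem appLE_eq {U : Y.Opens} (hU : IsAffineOpen U) (e : Γ(E, U)) {W : P.Opens} (hW : IsAffineOpen W)
    (h : Proj.basicOpen ((K823.Criterion.𝒮 q φ hL hE).deg U hU) (hatA q φ (Φ q φ hL hE U hU) e) ≤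
      RelProj.emb p chart U hU ⁻¹ᵁ W) (h' : nz q φ e ≤ i ⁻¹ᵁ W) :
    i.appLE W (nz q φ e) h' = (RelProj.emb p chart U hU).appLE W _ h ≫
      (Proj.basicOpenIsoAway ((K823.Criterion.𝒮 q φ hL hE).deg U hU) (hatA q φ (Φ q φ hL hE U hU) e)
        (hatA_mem q φ _ (Φ q φ hL hE U hU) (hΦ q φ hL hE U hU) e) one_pos).inv ≫
      CommRingCat.ofHom (θ q φ ((K823.Criterion.𝒮 q φ hL hE).deg U hU) (Φ q φ hL hE U hU) e) := by
  apply K43.RelTw.appLE_eq_of_toSpecΓ i hW h'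
  rw [ι_comp q φ hL hE hVA hi hU e, awayι_comp _ one_pos _ hW h, K43.HomImm.mor, Category.assoc]
  simp only [Spec.map_comp, Category.assoc]

section ratio

open RelProj in
/-- Ratios of sections of `O(1)`, read in the chart. -/
theorem appLE_ratio {S P : Scheme.{u}} {𝒮 : QCGrAlg S} {E : S.Modules} {j : E ⟶ 𝒮.toModule} {p : P ⟶ S}
    {chart : ∀ (U : S.Opens) (hU : IsAffineOpen U), (((p ⁻¹ᵁ U : P.Opens) : Scheme.{u}) ≅ Proj (𝒮.deg U hU))}
    {L : P.Modules}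
    {lam : ∀ (U : S.Opens) (hU : IsAffineOpen U),
      L ⟶ (Scheme.Modules.pushforward (emb p chart U hU)).obj (GrTwist.twist (𝒮.deg U hU) 1)}
    (hP : IsRelProj 𝒮 p chart) (hL : IsRelTwist 𝒮 p chart 1 L lam) (hpk : Pack j) {U : S.Opens}
    (hU : IsAffineOpen U) (e t : Γ(E, U)) {f g : 𝒮.presheaf.obj (op U)} (hf : jv j e = f) (hg : jv j t = g)
    (hf1 : f ∈ 𝒮.deg U hU 1) (hg1 : g ∈ 𝒮.deg U hU (1 • 1)) (a : Γ(P, nz p (canMap hP hL hpk.mem) e))
    (ha : res L (nz_le p (canMap hP hL hpk.mem) e) (se p (canMap hP hL hpk.mem) t) =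
      a • res L (nz_le p (canMap hP hL hpk.mem) e) (se p (canMap hP hL hpk.mem) e))
    (h : Proj.basicOpen (𝒮.deg U hU) f ≤ emb p chart U hU ⁻¹ᵁ nz p (canMap hP hL hpk.mem) e) :
    (emb p chart U hU).appLE (nz p (canMap hP hL hpk.mem) e) (Proj.basicOpen (𝒮.deg U hU) f) h a =
      (Proj.awayToSection (𝒮.deg U hU) f).hom (Away.mk (𝒮.deg U hU) hf1 1 g hg1) := by
  subst hf hg
  have hW := nz_le p (canMap hP hL hpk.mem) e
  have h1 : res L hW (K43.RelTw.can hL hU (i := 1) (n := 1) rfl (j1 hpk.mem hU t)) =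
      a • res L hW (K43.RelTw.can hL hU (i := 1) (n := 1) rfl (j1 hpk.mem hU e)) := by
    have h0 := ha
    rw [canMap_app hP hL hpk.mem hU, canMap_app hP hL hpk.mem hU] at h0
    exact h0
  rw [K43.RelTw.rdU_ratio hL hU rfl hW] at h1
  have h2 := congrArg (res (GrTwist.twist (𝒮.deg U hU) 1) h) h1
  rw [res_smul, K43.GrFrac.res_globSec, K43.GrFrac.res_globSec] at h2
  have h3 := K43.GrFrac.awayToSection_mk_smul (𝒜 := 𝒮.deg U hU) (hpk.mem U hU e) (n := 1) rfl (jv j t)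
    (hpk.mem U hU t)
  have h4 : Groth.Agent.Fdesc.LocGen.IsGen (K43.GrFrac.globSec (n := 1) (i := 1) rfl (j1 hpk.mem hU e)
      (Proj.basicOpen (𝒮.deg U hU) (jv j e))) := K43.GrFrac.isGen_globSec rfl _ _ fun y hy => hy
  exact h4.ext (h2.symm.trans h3)

end ratio

include hi in
theorem nz_le_preimage {U : Y.Opens} (hU : IsAffineOpen U) (e : Γ(E, U)) :
    nz q φ e ≤ i ⁻¹ᵁ nz p (canMap hP hO1 (pack_j q φ hL hE hj).mem) e := by
  intro x hx
  have h1 := congrArg (fun k : (nz q φ e : Scheme.{u}) ⟶ P => k ⟨x, hx⟩) (ι_comp q φ hL hE hVA hi hU e)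
  dsimp only at h1
  change ((nz q φ e).ι ≫ i) ⟨x, hx⟩ ∈ nz p (canMap hP hO1 (pack_j q φ hL hE hj).mem) e
  rw [h1, nz_canMap hP hO1 (pack_j q φ hL hE hj) hU, hj U hU e,
    Scheme.Hom.comp_apply, Scheme.Hom.comp_apply, K43.RelTw.emb_mem_Dp]
  have h2 := Set.mem_range_self (f := Proj.awayι ((K823.Criterion.𝒮 q φ hL hE).deg U hU) (hatA q φ (Φ q φ hL hE U hU) e)
          (hatA_mem q φ _ (Φ q φ hL hE U hU) (hΦ q φ hL hE U hU) e) one_pos)
          (K43.HomImm.mor (nz q φ e) (θ q φ ((K823.Criterion.𝒮 q φ hL hE).deg U hU) (Φ q φ hL hE U hU) e) ⟨x, hx⟩)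
  have h3 := Proj.opensRange_awayι ((K823.Criterion.𝒮 q φ hL hE).deg U hU) (hatA q φ (Φ q φ hL hE U hU) e)
          (hatA_mem q φ _ (Φ q φ hL hE U hU) (hΦ q φ hL hE U hU) e) one_pos
  have h4 : _ ∈ (Proj.awayι ((K823.Criterion.𝒮 q φ hL hE).deg U hU) (hatA q φ (Φ q φ hL hE U hU) e)
          (hatA_mem q φ _ (Φ q φ hL hE U hU) (hΦ q φ hL hE U hU) e) one_pos).opensRange := h2
  rw [h3] at h4
  exact h4

include hi in
/-- The ratios correspond. -/
theorem ratio_eq {U : Y.Opens} (hU : IsAffineOpen U) (e t : Γ(E, U))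
    (a : Γ(P, nz p (canMap hP hO1 (pack_j q φ hL hE hj).mem) e))
    (ha : res O1 (nz_le p (canMap hP hO1 (pack_j q φ hL hE hj).mem) e)
        (se p (canMap hP hO1 (pack_j q φ hL hE hj).mem) t) =
      a • res O1 (nz_le p (canMap hP hO1 (pack_j q φ hL hE hj).mem) e)
        (se p (canMap hP hO1 (pack_j q φ hL hE hj).mem) e)) :
    res L (nz_le q φ e) (se q φ t) =
      (i.appLE _ (nz q φ e) (nz_le_preimage q φ hL hE hj hVA hP hO1 hi hU e) a : Γ(X, nz q φ e)) •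
        res L (nz_le q φ e) (se q φ e) := by
  obtain ⟨b, hb⟩ := (isGen_nz q φ e).exists_eq (res L (nz_le q φ e) (se q φ t))
  have hW := isAffineOpen_nz hP hO1 (pack_j q φ hL hE hj) hU e
  have h : Proj.basicOpen ((K823.Criterion.𝒮 q φ hL hE).deg U hU) (hatA q φ (Φ q φ hL hE U hU) e) ≤
      RelProj.emb p chart U hU ⁻¹ᵁ nz p (canMap hP hO1 (pack_j q φ hL hE hj).mem) e := by
    rw [nz_canMap hP hO1 (pack_j q φ hL hE hj) hU, hj U hU e, K43.RelTw.emb_preimage_Dp]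
  have hf1 := hatA_mem q φ _ (Φ q φ hL hE U hU) (hΦ q φ hL hE U hU) e
  have hg1 : hatA q φ (Φ q φ hL hE U hU) t ∈ (K823.Criterion.𝒮 q φ hL hE).deg U hU (1 • 1) := by
    rw [one_smul]
    exact hatA_mem q φ _ (Φ q φ hL hE U hU) (hΦ q φ hL hE U hU) t
  have h1 := appLE_ratio hP hO1 (pack_j q φ hL hE hj) hU e t (hj U hU e) (hj U hU t) hf1 hg1 a ha h
  rw [appLE_eq q φ hL hE hVA hi hU e hW h]
  have h2 : (Proj.basicOpenIsoAway ((K823.Criterion.𝒮 q φ hL hE).deg U hU) (hatA q φ (Φ q φ hL hE U hU) e)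
        (hatA_mem q φ _ (Φ q φ hL hE U hU) (hΦ q φ hL hE U hU) e) one_pos).inv
      ((Proj.awayToSection _ _).hom (Away.mk ((K823.Criterion.𝒮 q φ hL hE).deg U hU) hf1 1 _ hg1)) =
        Away.mk ((K823.Criterion.𝒮 q φ hL hE).deg U hU) hf1 1 _ hg1 := by
    have := (Proj.basicOpenIsoAway ((K823.Criterion.𝒮 q φ hL hE).deg U hU) (hatA q φ (Φ q φ hL hE U hU) e)
        (hatA_mem q φ _ (Φ q φ hL hE U hU) (hΦ q φ hL hE U hU) e) one_pos).hom_inv_id
    rw [Proj.basicOpenIsoAway_hom] at this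
    exact congr(($this).hom _)
  have h3 := theta_mk (evA q φ (Φ q φ hL hE U hU : _ →+* AA q φ U) (idx q φ e))
    (isUnit_evA_idx q φ (Φ q φ hL hE U hU) e) hf1 1 _ hg1
  rw [pow_one, evA_idx_hatA, mul_one, evA_hatA, ev_idx_ratio q φ e t hb] at h3
  have h4 : ((RelProj.emb p chart U hU).appLE _ _ h ≫
      (Proj.basicOpenIsoAway ((K823.Criterion.𝒮 q φ hL hE).deg U hU) (hatA q φ (Φ q φ hL hE U hU) e)
        (hatA_mem q φ _ (Φ q φ hL hE U hU) (hΦ q φ hL hE U hU) e) one_pos).inv ≫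
      CommRingCat.ofHom (θ q φ ((K823.Criterion.𝒮 q φ hL hE).deg U hU) (Φ q φ hL hE U hU) e)) a = b := by
    rw [CommRingCat.comp_apply, CommRingCat.comp_apply, h1, h2]
    exact h3
  rw [h4, hb]

include hi in
/-- **Compatibility.** -/
theorem comp_i (hip : i ≫ p = q) : K35.Univ.Comp φ (canMap hP hO1 (pack_j q φ hL hE hj).mem) i hip := by
  refine K35.Univ.comp_of_cover hip fun x => ?_
  obtain ⟨U, hU, hxU, -⟩ := exists_isAffineOpen_mem_and_subset (x := q x) (U := ⊤) trivial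
  obtain ⟨e, he, -⟩ := hVA U hU x hxU
  refine ⟨_, (nz q φ e).ι, inferInstance, by rw [Scheme.Opens.opensRange_ι]; exact he, ?_⟩
  have hD := nz_le_preimage q φ hL hE hj hVA hP hO1 hi hU e
  have htop : (⊤ : (nz q φ e : Scheme.{u}).Opens) ≤ (nz q φ e).ι ⁻¹ᵁ nz q φ e := fun y _ => y.2
  have hrD : (⊤ : (nz q φ e : Scheme.{u}).Opens) ≤ ((nz q φ e).ι ≫ i) ⁻¹ᵁ
      nz p (canMap hP hO1 (pack_j q φ hL hE hj).mem) e := fun y _ => hD y.2
  have key : ∀ (t : Γ(E, U)) (h : (⊤ : (nz q φ e : Scheme.{u}).Opens) ≤ ((nz q φ e).ι ≫ q) ⁻¹ᵁ U),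
      res ((Scheme.Modules.pullback (nz q φ e).ι).obj L) h
        (se ((nz q φ e).ι ≫ q) (K35.Univ.pullD (nz q φ e).ι q φ) t) =
      res _ htop (pullSec (nz q φ e).ι (res L (nz_le q φ e) (se q φ t))) := by
    intro t h
    rw [K35.Univ.se_pullD, ← res_pullSec, res_res]
    rfl
  refine K35.Univ.comp_of_affine hE hU e _ hrD ?_ ?_
  · rw [key]
    exact ((isGen_nz q φ e).pullSec _).res htop
  · intro t a ha
    rw [key, key, ratio_eq q φ hL hE hj hVA hP hO1 hi hU e t a ha, pullSec_smul, res_smul]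
    congr 1
    have h5 : ((nz q φ e).ι ≫ i).appLE _ ⊤ hrD = i.appLE _ _ hD ≫ (nz q φ e).ι.appLE _ ⊤ htop := by
      rw [Scheme.Hom.appLE_comp_appLE]
    rw [h5]
    rfl

include hi hj hP hO1 in
/-- `L` is the pullback of `O(1)`. -/
theorem exists_iso (hip : i ≫ p = q) : Nonempty (L ≅ (Scheme.Modules.pullback i).obj O1) := by
  subst hip
  have hgn : K42.VATens.Gn p (canMap hP hO1 (pack_j (i ≫ p) φ hL hE hj).mem) := by
    intro z
    obtain ⟨V, hV, hzV, -⟩ := exists_isAffineOpen_mem_and_subset (x := p z) (U := ⊤) trivial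
    obtain ⟨x, hx⟩ := exists_mem_nz hP hO1 (pack_j (i ≫ p) φ hL hE hj) hV z hzV
    exact ⟨V, x, hx⟩
  obtain ⟨τ, -⟩ := K35.UnivIso.exists_iso_of_comp hgn (comp_i (i ≫ p) φ hL hE hj hVA hP hO1 hi rfl)
  exact ⟨τ.symm⟩

end K34.OpenTwist

end
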