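import Groth.Agent.EGA2.K34.GenOn
import Groth.Agent.EGA2.K34.RelAmpInv
import Groth.Agent.Ega2.AmpleGlobGen
import Groth.Agent.Ega3B.TensRestrict

/-!
# Quotients of pullbacks of finite type modules, from a relatively ample module

* `quasiSeparated_of_isRelAmple`;
* `exists_genOn`: `F ⊗ L^m` is generated over `f⁻¹ V` for large `m`, `V` affine;
* `exists_quot_of_isRelAmple`: on a qcqs base, `F ⊗ L^m` is a quotient of a pullback of a module of finite type;
* `epi_counit_of_isRelAmple`: over a quasi-compact base the counit at `F ⊗ L^m` is an epimorphism for large `m`.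
-/

set_option autoImplicit false
universe u
open CategoryTheory CategoryTheory.Limits AlgebraicGeometry TopologicalSpace Opposite

namespace K34.RelAmpQuot

open Groth.Agent.Fdesc.LocGen Groth.Agent.Ega2.Nv Groth.Agent.Ega2.Ample Groth.Agent.Ega2.RelAmp
open K34.GenOn

variable {X Y : Scheme.{u}}

/-- A morphism with a relatively ample module is quasi-separated. -/
theorem quasiSeparated_of_isRelAmple (f : X ⟶ Y) {L : X.Modules} (h : RelAmple.IsRelAmple f L) :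
    QuasiSeparated f := by
  rw [isRelAmple_iff] at h
  refine (HasAffineProperty.iff_of_iSup_eq_top (P := @QuasiSeparated)
    (Q := fun X _ _ _ ↦ QuasiSeparatedSpace X) (fun V : Y.affineOpens => V)
    (iSup_affineOpens_eq_top Y)).2 fun V => ?_
  exact (isQuasiSeparated_iff_quasiSeparatedSpace _ (f ⁻¹ᵁ (V : Y.Opens)).2).mp
    (h.2 V).isQuasiSeparated

/-- `F ⊗ L^m` is generated by its sections over `f⁻¹ V` for large `m`, `V` affine. -/
theorem exists_genOn (f : X ⟶ Y) {L : X.Modules} (h : RelAmple.IsRelAmple f L) {F : X.Modules}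
    (hF : Coh.IsCoh F) (V : Y.affineOpens) :
    ∃ m₀ : ℕ, ∀ m, m₀ ≤ m → GenOn (CohB1.tensorMod F (CohB1.tensorPow L m))
      (Set.univ : Set Γ(CohB1.tensorMod F (CohB1.tensorPow L m), f ⁻¹ᵁ (V : Y.Opens))) := by
  have hinv := RelAmpInv.isInvertible_of_isRelAmple f h
  have hA := (isRelAmple_iff.1 h).2 V
  have hqs : QuasiSeparatedSpace ((f ⁻¹ᵁ (V : Y.Opens) : X.Opens) : Scheme.{u}) :=
    (isQuasiSeparated_iff_quasiSeparatedSpace _ (f ⁻¹ᵁ (V : Y.Opens)).2).mp hA.isQuasiSeparated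
  have hF' : Coh.IsCoh (F.restrict (f ⁻¹ᵁ (V : Y.Opens)).ι) :=
    ⟨Groth.Agent.Fdesc.QCohStalk.restrict_isQCoh F hF.1 _,
      Groth.Agent.CohqB.FiniteType.IsFT.restrict hF.2 _⟩
  obtain ⟨m₀, hm₀⟩ := Groth.Agent.Ega2.AmpleGlobGen.exists_globGen (isAmple_restrict_ι_iff _ |>.2 hA) hF'
  refine ⟨m₀, fun m hm => ?_⟩
  refine genOn_univ_of_isGloballyGenerated
    (Groth.Agent.Ega2.TensGen.isQCoh_tensor hF.1 (isInvertible_tensorPow hinv m)) _ ?_
  obtain ⟨e⟩ := Groth.Agent.Ega3B.TensRestrict.restrictPowIso (f ⁻¹ᵁ (V : Y.Opens)).ι L m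
  refine Groth.Agent.Ega2.GlobGenCrit.isGloballyGenerated_of_iso ?_ (hm₀ m hm)
  exact (Groth.Agent.Ega3B.TensRestrict.restrictIso (f ⁻¹ᵁ (V : Y.Opens)).ι F (CohB1.tensorPow L m) ≪≫
    Groth.Agent.Ega2.Tens.mapTIso (Iso.refl _) e).symm

/-- Over a quasi-compact base. -/
theorem exists_forall_genOn [CompactSpace Y] (f : X ⟶ Y) {L : X.Modules} (h : RelAmple.IsRelAmple f L)
    {F : X.Modules} (hF : Coh.IsCoh F) :
    ∃ m₀ : ℕ, ∀ m, m₀ ≤ m → ∀ y : Y, ∃ V : Y.Opens, y ∈ V ∧ IsAffineOpen V ∧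
      GenOn (CohB1.tensorMod F (CohB1.tensorPow L m))
        (Set.univ : Set Γ(CohB1.tensorMod F (CohB1.tensorPow L m), f ⁻¹ᵁ V)) := by
  choose m₀ hm₀ using exists_genOn f h hF
  obtain ⟨t, ht⟩ := isCompact_univ.elim_finite_subcover (fun V : Y.affineOpens => ((V : Y.Opens) : Set Y))
    (fun V => (V : Y.Opens).isOpen) (fun y _ => by
      obtain ⟨_, ⟨V, hV, rfl⟩, hyV, -⟩ :=
        Y.isBasis_affineOpens.exists_subset_of_mem_open (Set.mem_univ y) isOpen_univ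
      exact Set.mem_iUnion.2 ⟨⟨V, hV⟩, hyV⟩)
  refine ⟨t.sup m₀, fun m hm y => ?_⟩
  obtain ⟨V, hV, hyV⟩ := Set.mem_iUnion₂.1 (ht (Set.mem_univ y))
  exact ⟨V, hyV, V.2, hm₀ V m ((Finset.le_sup hV).trans hm)⟩

theorem exists_quot_of_isRelAmple [CompactSpace Y] [QuasiSeparatedSpace Y] (f : X ⟶ Y) {L : X.Modules}
    (h : RelAmple.IsRelAmple f L) {F : X.Modules} (hF : Coh.IsCoh F) :
    ∃ m₀ : ℕ, ∀ m, m₀ ≤ m → ∃ (G : Y.Modules)
      (φ : (Scheme.Modules.pullback f).obj G ⟶ CohB1.tensorMod F (CohB1.tensorPow L m)),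
        Coh.IsQCoh G ∧ CohB1.IsFT G ∧ Epi φ := by
  have hqc : QuasiCompact f := (isRelAmple_iff.1 h).1
  have hqs := quasiSeparated_of_isRelAmple f h
  have hinv := RelAmpInv.isInvertible_of_isRelAmple f h
  obtain ⟨m₀, hm₀⟩ := exists_forall_genOn f h hF
  refine ⟨m₀, fun m hm => ?_⟩
  have hc := Groth.Agent.Ega2.GlobGenCrit.isCoh_tensor hF (isInvertible_tensorPow hinv m)
  exact exists_quot f hc.1 hc.2 (hm₀ m hm)

end K34.RelAmpQuot
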